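import Cfsg.Agent.Lib.ThompsonSquare.RegUni

/-!
Products of adjacent transvections are regular unipotent; diagonal scalars are products of simple diagonal elements.
-/

set_option autoImplicit false

namespace Cfsg.Agent.Lib.ThompsonSquare

open Matrix
open Cfsg.Agent.Lib.Schur.SteinbergSLn (trv)
open scoped MatrixGroups

variable {F : Type*} [Field F] {n : ℕ}

/-- A product of lower adjacent transvections. -/
def lowWord (l : List (Fin (n + 1) × F)) : SpecialLinearGroup (Fin (n + 2)) F :=
  (l.map fun x => trv (n + 2) F x.1.succ x.1.castSucc x.2).prod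

/-- A product of upper adjacent transvections. -/
def upWord (l : List (Fin (n + 1) × F)) : SpecialLinearGroup (Fin (n + 2)) F :=
  (l.map fun x => trv (n + 2) F x.1.castSucc x.1.succ x.2).prod

theorem trv_coe {a b : Fin (n + 2)} (h : a ≠ b) (t : F) :
    (trv (n + 2) F a b t).1 = 1 + Matrix.single a b t := by
  simp [trv, h, SpecialLinearGroup.transvection_coe]

theorem mul_trv {M : Matrix (Fin (n + 2)) (Fin (n + 2)) F} {a b : Fin (n + 2)} (h : a ≠ b) (t : F)
    (i j : Fin (n + 2)) : ((trv (n + 2) F a b t).1 * M) i j = M i j + if i = a then t * M b j else 0 := by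
  rw [trv_coe h, add_mul, one_mul, Matrix.add_apply]
  split_ifs with hi
  · subst hi; rw [Matrix.single_mul_apply_same]
  · rw [Matrix.single_mul_apply_of_ne _ _ _ _ _ hi]

theorem lowWord_entries : ∀ l : List (Fin (n + 1) × F), (l.map Prod.fst).Nodup →
    (∀ i j : Fin (n + 2), i < j → (lowWord l).1 i j = 0) ∧ (∀ i, (lowWord l).1 i i = 1) ∧
      ∀ k : Fin (n + 1), ((∀ x ∈ l, x.1 ≠ k) → (lowWord l).1 k.succ k.castSucc = 0) ∧
        ∀ t, (k, t) ∈ l → (lowWord l).1 k.succ k.castSucc = t := by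
  intro l
  induction l with
  | nil =>
    intro _
    refine ⟨fun i j h => ?_, fun i => ?_, fun k => ⟨fun _ => ?_, fun t h => absurd h (List.not_mem_nil)⟩⟩
    · simp [lowWord, h.ne]
    · simp [lowWord]
    · simp [lowWord, k.castSucc_lt_succ.ne']
  | cons x l ih =>
    intro hnd
    obtain ⟨a, s⟩ := x
    rw [List.map_cons, List.nodup_cons] at hnd
    obtain ⟨hz, hd, hs⟩ := ih hnd.2
    have hne : a.succ ≠ a.castSucc := a.castSucc_lt_succ.ne'
    have e : ∀ i j, (lowWord ((a, s) :: l)).1 i j =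
        (lowWord l).1 i j + if i = a.succ then s * (lowWord l).1 a.castSucc j else 0 := fun i j => by
      show ((trv (n + 2) F a.succ a.castSucc s * lowWord l).1) i j = _
      exact mul_trv hne s i j
    refine ⟨fun i j h => ?_, fun i => ?_, fun k => ⟨fun hk => ?_, fun t ht => ?_⟩⟩
    · rw [e, hz i j h]
      split_ifs with hi
      · subst hi; rw [hz _ j (a.castSucc_lt_succ.trans h), mul_zero, add_zero]
      · simp
    · rw [e, hd]
      split_ifs with hi
      · subst hi; rw [hz _ _ a.castSucc_lt_succ, mul_zero, add_zero]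
      · simp
    · rw [e, (hs k).1 fun x hx => hk x (List.mem_cons_of_mem _ hx), if_neg, add_zero]
      exact fun hi => hk (a, s) List.mem_cons_self (Fin.succ_injective _ hi).symm
    · rcases List.mem_cons.1 ht with h | h
      · obtain ⟨rfl, rfl⟩ := Prod.mk.inj h
        rw [e, (hs k).1 (fun x hx hxk => hnd.1 (List.mem_map.2 ⟨x, hx, hxk⟩)), if_pos rfl, hd, mul_one, zero_add]
      · rw [e, (hs k).2 t h, if_neg, add_zero]
        exact fun hi => hnd.1 (List.mem_map.2 ⟨(k, t), h, Fin.succ_injective _ hi⟩)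

theorem upWord_entries : ∀ l : List (Fin (n + 1) × F), (l.map Prod.fst).Nodup →
    (∀ i j : Fin (n + 2), j < i → (upWord l).1 i j = 0) ∧ (∀ i, (upWord l).1 i i = 1) ∧
      ∀ k : Fin (n + 1), ((∀ x ∈ l, x.1 ≠ k) → (upWord l).1 k.castSucc k.succ = 0) ∧
        ∀ t, (k, t) ∈ l → (upWord l).1 k.castSucc k.succ = t := by
  intro l
  induction l with
  | nil =>
    intro _
    refine ⟨fun i j h => ?_, fun i => ?_, fun k => ⟨fun _ => ?_, fun t h => absurd h (List.not_mem_nil)⟩⟩
    · simp [upWord, h.ne']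
    · simp [upWord]
    · simp [upWord, k.castSucc_lt_succ.ne]
  | cons x l ih =>
    intro hnd
    obtain ⟨a, s⟩ := x
    rw [List.map_cons, List.nodup_cons] at hnd
    obtain ⟨hz, hd, hs⟩ := ih hnd.2
    have hne : a.castSucc ≠ a.succ := a.castSucc_lt_succ.ne
    have e : ∀ i j, (upWord ((a, s) :: l)).1 i j =
        (upWord l).1 i j + if i = a.castSucc then s * (upWord l).1 a.succ j else 0 := fun i j => by
      show ((trv (n + 2) F a.castSucc a.succ s * upWord l).1) i j = _
      exact mul_trv hne s i j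
    refine ⟨fun i j h => ?_, fun i => ?_, fun k => ⟨fun hk => ?_, fun t ht => ?_⟩⟩
    · rw [e, hz i j h]
      split_ifs with hi
      · subst hi; rw [hz _ j (h.trans a.castSucc_lt_succ), mul_zero, add_zero]
      · simp
    · rw [e, hd]
      split_ifs with hi
      · subst hi; rw [hz _ _ a.castSucc_lt_succ, mul_zero, add_zero]
      · simp
    · rw [e, (hs k).1 fun x hx => hk x (List.mem_cons_of_mem _ hx), if_neg, add_zero]
      exact fun hi => hk (a, s) List.mem_cons_self (Fin.castSucc_injective _ hi).symm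
    · rcases List.mem_cons.1 ht with h | h
      · obtain ⟨rfl, rfl⟩ := Prod.mk.inj h
        rw [e, (hs k).1 (fun x hx hxk => hnd.1 (List.mem_map.2 ⟨x, hx, hxk⟩)), if_pos rfl, hd, mul_one, zero_add]
      · rw [e, (hs k).2 t h, if_neg, add_zero]
        exact fun hi => hnd.1 (List.mem_map.2 ⟨(k, t), h, Fin.castSucc_injective _ hi⟩)

theorem ru_lowWord (l : List (Fin (n + 1) × F)) (hnd : (l.map Prod.fst).Nodup)
    (hall : ∀ k, ∃ t, t ≠ 0 ∧ (k, t) ∈ l) : RU (lowWord l).1 := by
  obtain ⟨hz, hd, hs⟩ := lowWord_entries l hnd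
  refine ru_lower hz hd fun i j h => ?_
  obtain ⟨t, ht, hm⟩ := hall ⟨j.val, by omega⟩
  have hi : i = (⟨j.val, by omega⟩ : Fin (n + 1)).succ := Fin.ext h.symm
  have e := (hs _).2 t hm
  rw [← hi] at e
  exact e.trans_ne ht

theorem ru_upWord (l : List (Fin (n + 1) × F)) (hnd : (l.map Prod.fst).Nodup)
    (hall : ∀ k, ∃ t, t ≠ 0 ∧ (k, t) ∈ l) : RU (upWord l).1 := by
  obtain ⟨hz, hd, hs⟩ := upWord_entries l hnd
  refine ru_upper hz hd fun i j h => ?_
  obtain ⟨t, ht, hm⟩ := hall ⟨i.val, by omega⟩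
  have hj : j = (⟨i.val, by omega⟩ : Fin (n + 1)).succ := Fin.ext h.symm
  have e := (hs _).2 t hm
  rw [← hj] at e
  exact e.trans_ne ht

/-- `diag(u, u⁻¹)` at two adjacent places. -/
def sh (i : Fin (n + 1)) (u : Fˣ) : SpecialLinearGroup (Fin (n + 2)) F :=
  trv (n + 2) F i.castSucc i.succ (u : F) * trv (n + 2) F i.succ i.castSucc (-(u : F)⁻¹) *
    trv (n + 2) F i.castSucc i.succ (u : F) * trv (n + 2) F i.castSucc i.succ (-1) *
    trv (n + 2) F i.succ i.castSucc 1 * trv (n + 2) F i.castSucc i.succ (-1)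

theorem sh_eq (i : Fin (n + 1)) (u : Fˣ) :
    (sh i u).1 = diagonal fun k => if k = i.castSucc then (u : F) else if k = i.succ then (u : F)⁻¹ else 1 := by
  have hne : i.castSucc ≠ i.succ := i.castSucc_lt_succ.ne
  have e := Cfsg.Agent.Lib.Linear.diag2n_decompose (F := F) hne (u : F) u.ne_zero
  have : sh i u = SpecialLinearGroup.diag2n hne (u : F) u.ne_zero := by
    rw [e, sh]; simp [trv, hne, hne.symm]
  rw [this, SpecialLinearGroup.diag2n_coe]

/-- A scalar of determinant one is a product of the simple diagonal elements. -/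
theorem scalar_mem {M : Subgroup (SpecialLinearGroup (Fin (n + 2)) F)} (hM : ∀ i u, sh i u ∈ M)
    {A : SpecialLinearGroup (Fin (n + 2)) F} {c : F} (hA : A.1 = c • 1) : A ∈ M := by
  have hc : c ^ (n + 2) = 1 := by
    have := A.2
    rw [hA] at this
    simpa using this
  have hc0 : c ≠ 0 := fun h => by simp [h] at hc
  have key : ∀ k : ℕ, k ≤ n + 1 → ∃ B ∈ M, B.1 = diagonal fun j : Fin (n + 2) =>
      if j.val < k then c else if j.val = k then (c ^ k)⁻¹ else 1 := by
    intro k
    induction k with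
    | zero => exact fun _ => ⟨1, one_mem _, by simp⟩
    | succ k ih =>
      intro hk
      obtain ⟨B, hB, e⟩ := ih (by omega)
      refine ⟨B * sh ⟨k, by omega⟩ ((Units.mk0 c hc0) ^ (k + 1)), mul_mem hB (hM _ _), ?_⟩
      show B.1 * (sh _ _).1 = _
      rw [e, sh_eq, diagonal_mul_diagonal]
      congr 1
      funext j
      simp only [Fin.ext_iff, Fin.val_castSucc, Fin.val_succ, Units.val_pow_eq_pow_val, Units.val_mk0]
      rcases lt_trichotomy j.val k with h | h | h
      · simp [h, h.ne, Nat.lt_succ_of_lt h, show ¬ j.val = k + 1 by omega]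
      · simp only [h, lt_irrefl, if_false, if_true, Nat.lt_succ_self]
        rw [pow_succ, inv_mul_cancel_left₀ (pow_ne_zero k hc0)]
      · simp [h.ne', show ¬ j.val < k by omega, show ¬ j.val < k + 1 by omega]
  obtain ⟨B, hB, e⟩ := key (n + 1) le_rfl
  convert hB using 1
  refine Subtype.ext ?_
  rw [hA, e, smul_one_eq_diagonal]
  congr 1
  funext j
  split_ifs with h1 h2
  · rfl
  · exact eq_inv_of_mul_eq_one_right (by rw [← pow_succ]; exact hc)
  · omega

end Cfsg.Agent.Lib.ThompsonSquare
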