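import Cfsg.Agent.Lib.ThompsonSquare.Split

/-!
Every Bruhat cell meets the lower unitriangular group, in an element with a chosen nonzero simple coordinate,
and so every element outside the core is conjugate to one of the big cell with such a lower part.
-/

set_option autoImplicit false
set_option linter.unusedSectionVars false

namespace Cfsg.Agent.Lib.ThompsonSquare

open Cfsg.Lie Cfsg.Agent.Lib.ChevStructure
open scoped MatrixGroups Matrix

variable {D : ChevalleyDatum} {C : Core D} (H : CommOK C) {F : Type*} [Field F]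

/-- Some splitting at a fundamental root has a nonzero coordinate. -/
def LowNontriv (C : Core D) (F : Type*) [Field F] (x : GL D.Idx F) : Prop :=
  ∃ i, ∃ a ∈ C.US F (op C (C.posBut i)), ∃ t : F, t ≠ 0 ∧ x = a * C.X F (C.p i).rev t

theorem cell_eq {x n n' : GL D.Idx F} (c : Fin D.rank → Fˣ) (hn : n = C.HT F c * n') :
    x ∈ DoubleCoset.doubleCoset n' (D.borelSubgroup F : Set (GL D.Idx F)) (D.borelSubgroup F) →
      x ∈ DoubleCoset.doubleCoset n (D.borelSubgroup F : Set (GL D.Idx F)) (D.borelSubgroup F) := by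
  simp only [DoubleCoset.mem_doubleCoset]
  rintro ⟨b, hb, b', hb', rfl⟩
  refine ⟨b * (C.HT F c)⁻¹, mul_mem hb (inv_mem (C.diagonal_le_borel (C.HT_mem_diagonal c))), b', hb', ?_⟩
  rw [hn]; group

include H in
theorem exists_cell (hF : ∀ a : F, ∃ t, t ≠ 0 ∧ t ≠ a) : ∀ (k : ℕ) (L : List (Fin D.rank)), L.length = k →
    ∃ x ∈ C.US F C.Neg,
      x ∈ DoubleCoset.doubleCoset (C.wprod F L) (D.borelSubgroup F : Set (GL D.Idx F)) (D.borelSubgroup F) ∧
      (C.pprod L ≠ 1 → LowNontriv C F x) := by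
  intro k
  induction k using Nat.strong_induction_on with
  | _ k ih =>
    intro L hk
    rcases List.eq_nil_or_concat' L with rfl | ⟨L', i, rfl⟩
    · refine ⟨1, one_mem _, ?_, fun h => absurd C.pprod_nil h⟩
      rw [DoubleCoset.mem_doubleCoset]
      exact ⟨1, one_mem _, 1, one_mem _, by simp [Core.wprod]⟩
    have hk' : L'.length + 1 = k := by simpa using hk
    by_cases hpos : C.pprod L' (C.p i) ∈ C.Pos
    swap
    · obtain ⟨L'', c, hl, hw, hp⟩ := C.exchange F L' i ((C.neg_iff_not_pos _).2 hpos)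
      obtain ⟨x, hx, hxc, hxn⟩ := ih L''.length (by omega) L'' rfl
      refine ⟨x, hx, cell_eq (C := C) c ?_ hxc, fun h => hxn ?_⟩
      · rw [← hw, C.wprod_append]; simp [Core.wprod]
      · rwa [C.pprod_concat, hp] at h
    obtain ⟨x', hx', hxc, -⟩ := ih L'.length (by omega) L' rfl
    obtain ⟨a, ha, s, rfl⟩ := split_n H i hx'
    obtain ⟨t, ht0, hts⟩ := hF (-s)
    refine ⟨a * C.X F (C.p i).rev s * C.X F (C.p i).rev t,
      mul_mem hx' (C.X_mem_US F (C.rev_neg (C.p_pos i)) t), ?_, fun _ => ⟨i, a, ha, s + t, ?_, ?_⟩⟩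
    · rw [DoubleCoset.mem_doubleCoset] at hxc ⊢
      obtain ⟨b₃, hb₃, b₄, hb₄, e⟩ := hxc
      -- `X_{-i}(t) = X_i(-u) n_i(u) X_i(-u)`
      set u : Fˣ := -(Units.mk0 t ht0)⁻¹ with hu
      obtain ⟨d, hd⟩ := C.nR_p F i u
      have hX : C.X F (C.p i).rev t = C.X F (C.p i) (-(u : F)) * (C.HT F d * C.P F i) * C.X F (C.p i) (-(u : F)) := by
        rw [← hd, Core.nR]
        simp only [← mul_assoc]
        rw [C.X_add, neg_add_cancel, C.X_zero, one_mul, mul_assoc, C.X_add, add_neg_cancel, C.X_zero, mul_one]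
        simp [hu]
      -- the part of the Borel subgroup in the middle
      obtain ⟨v, hv, h, hh, e'⟩ := C.mem_borel_iff.1
        (mul_mem (mul_mem hb₄ (C.X_mem_borel (C.p_pos i) (-(u : F))))
          (C.diagonal_le_borel (C.HT_mem_diagonal d)))
      obtain ⟨c, rfl⟩ := C.mem_diagonal_iff.1 hh
      obtain ⟨r, v', hv', rfl⟩ := split_p H i hv
      obtain ⟨ee, hee⟩ := C.acts_wprod F L' (C.p i)
      obtain ⟨c', hc'⟩ := C.P_HT F i c
      obtain ⟨d', hd'⟩ := C.P_inv F i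
      have hP : C.Acts (C.P F i)⁻¹ (C.sref i) := by
        have h1 := C.acts_inv F (C.acts_wprod F [i])
        rwa [show C.wprod F [i] = C.P F i by simp [Core.wprod], show C.pprod [i] = C.sref i by simp [Core.pprod],
          inv_eq_of_mul_eq_one_right (C.sref_mul_self i)] at h1
      have hv'' : (C.P F i)⁻¹ * v' * C.P F i ∈ D.borelSubgroup F := by
        have := C.conj_mem_US F hP (fun r hr => (C.w_posBut hr).1) hv'
        rw [inv_inv] at this
        exact C.posUS_le_borel this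
      have hcP : (C.P F i)⁻¹ * C.HT F c * C.P F i ∈ D.borelSubgroup F := by
        refine C.diagonal_le_borel ?_
        have := C.conj_diagonal (inv_mem (C.P_mem_monomial i)) (C.HT_mem_diagonal c)
        rwa [inv_inv] at this
      refine ⟨b₃ * C.X F (C.pprod L' (C.p i)) ((ee : F) * r), mul_mem hb₃ (C.X_mem_borel hpos _),
        (C.P F i)⁻¹ * v' * C.P F i * ((C.P F i)⁻¹ * C.HT F c * C.P F i) * C.X F (C.p i) (-(u : F)),
        mul_mem (mul_mem hv'' hcP) (C.X_mem_borel (C.p_pos i) _), ?_⟩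
      rw [C.wprod_append, e, hX, ← hee]
      simp only [Core.wprod, List.map_cons, List.map_nil, List.prod_cons, List.prod_nil, mul_one]
      calc b₃ * (L'.map (C.P F)).prod * b₄ * (C.X F (C.p i) (-(u : F)) * (C.HT F d * C.P F i) * C.X F (C.p i) (-(u : F)))
          = b₃ * (L'.map (C.P F)).prod * (b₄ * C.X F (C.p i) (-(u : F)) * C.HT F d) * C.P F i *
              C.X F (C.p i) (-(u : F)) := by group
        _ = _ := by rw [e']; group
    · exact fun h => hts (eq_neg_of_add_eq_zero_right h)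
    · rw [mul_assoc, C.X_add]

variable [Fintype F]

include H in
/-- An element outside the core is conjugate to `v h q` with `v` nontrivial at a fundamental root. -/
theorem exists_low (h4 : 4 ≤ Fintype.card F) {g : GL D.Idx F} (hg : g ∈ D.group F) (hg1 : g ≠ 1) :
    ∃ k ∈ D.group F, ∃ v ∈ C.US F C.Neg, ∃ c : Fin D.rank → Fˣ, ∃ q ∈ C.US F C.Pos,
      k * g * k⁻¹ = v * C.HT F c * q ∧ LowNontriv C F v := by
  classical
  obtain ⟨k₀, hk₀, hB⟩ : ∃ k ∈ D.group F, k * g * k⁻¹ ∉ D.borelSubgroup F := by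
    by_contra hcon
    simp only [not_exists, not_and, not_not] at hcon
    have h : (⟨g, hg⟩ : D.group F) ∈ ((D.borelSubgroup F).subgroupOf (D.group F)).normalCore :=
      fun k => hcon _ k.2
    rw [C.borel_core, Subgroup.mem_bot] at h
    exact hg1 (congrArg Subtype.val h)
  set g' := k₀ * g * k₀⁻¹ with hg'
  have hgG : g' ∈ D.group F := mul_mem (mul_mem hk₀ hg) (inv_mem hk₀)
  obtain ⟨n, hn, hgn⟩ := H.exists_bruhat hgG
  obtain ⟨c₀, L, rfl⟩ := C.exists_word_monomial hn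
  have hF : ∀ a : F, ∃ t, t ≠ 0 ∧ t ≠ a := by
    intro a
    obtain ⟨t, ht⟩ : ((Finset.univ : Finset F) \ {0, a}).Nonempty := by
      rw [← Finset.card_pos]
      have h1 := Finset.card_le_two (a := (0 : F)) (b := a)
      have h2 := Finset.le_card_sdiff ({0, a} : Finset F) Finset.univ
      rw [Finset.card_univ] at h2
      omega
    simp at ht
    exact ⟨t, ht.1, ht.2⟩
  obtain ⟨x, hx, hxc, hxn⟩ := exists_cell H hF L.length L rfl
  have hne : C.pprod L ≠ 1 := by
    intro h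
    obtain ⟨c₁, hc₁⟩ := C.wprod_eq_HT_of_pprod_eq_one F h
    obtain ⟨b₁, hb₁, b₂, hb₂, e⟩ := DoubleCoset.mem_doubleCoset.1 hgn
    refine hB (e ▸ mul_mem (mul_mem hb₁ ?_) hb₂)
    rw [hc₁, C.HT_mul]
    exact C.diagonal_le_borel (C.HT_mem_diagonal _)
  obtain ⟨b₁, hb₁, b₂, hb₂, e⟩ := DoubleCoset.mem_doubleCoset.1 hgn
  obtain ⟨b₃, hb₃, b₄, hb₄, ex⟩ := DoubleCoset.mem_doubleCoset.1 hxc
  have hT : C.HT F c₀ ∈ D.borelSubgroup F := C.diagonal_le_borel (C.HT_mem_diagonal _)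
  set b₅ := b₁ * C.HT F c₀ * b₃⁻¹ with hb₅d
  have hb₅ : b₅ ∈ D.borelSubgroup F := mul_mem (mul_mem hb₁ hT) (inv_mem hb₃)
  set b := b₄⁻¹ * b₂ * b₅ with hbd
  obtain ⟨v, hv, h, hh, eb⟩ := C.mem_borel_iff.1 (mul_mem (mul_mem (inv_mem hb₄) hb₂) hb₅ : b ∈ D.borelSubgroup F)
  obtain ⟨c, rfl⟩ := C.mem_diagonal_iff.1 hh
  refine ⟨b₅⁻¹ * k₀, mul_mem (inv_mem (C.borel_le_group hb₅)) hk₀, x, hx, c,
    (C.HT F c)⁻¹ * v * C.HT F c, ?_, ?_, hxn hne⟩
  · have := (Subgroup.mem_normalizer_iff.1 (C.diag_le_normalizer C.Pos (inv_mem (C.HT_mem_diagonal c))) v).1 hv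
    simpa using this
  · calc b₅⁻¹ * k₀ * g * (b₅⁻¹ * k₀)⁻¹ = b₅⁻¹ * g' * b₅ := by rw [hg']; group
      _ = b₅⁻¹ * (b₁ * (C.HT F c₀ * C.wprod F L) * b₂) * b₅ := by rw [← e]
      _ = (b₃ * C.wprod F L * b₄) * (b₄⁻¹ * b₂ * b₅) := by rw [hb₅d]; group
      _ = x * (v * C.HT F c) := by rw [← ex, eb]
      _ = _ := by group

end Cfsg.Agent.Lib.ThompsonSquare
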