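import Cfsg.Agent.Lib.Sourour.Product
import Cfsg.Agent.Lib.Schur.SteinbergSLn
import Cfsg.Agent.Lib.CTRecog.Chain

/-!
Regular unipotent classes of special linear groups: two of them cover every non-scalar matrix.
-/

set_option autoImplicit false

namespace Cfsg.Agent.Lib.ThompsonSquare

open Matrix Cfsg.Agent.Lib.Sourour
open Cfsg.Agent.Lib.Schur.SteinbergSLn (trv trv_rel)
open scoped MatrixGroups

variable {F : Type*} [Field F]

/-- Regular unipotent. -/
def RU {m : ℕ} (M : Matrix (Fin m) (Fin m) F) : Prop := Sim M (nf (fun _ => (1 : F)) 0)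

theorem runs_one (m : ℕ) : Runs (fun _ : Fin m => (1 : F)) 0 1 :=
  ⟨fun i hi => absurd hi (Nat.not_lt_zero _), fun _ _ => rfl⟩

theorem sim_conj {m : ℕ} {M M' N : Matrix (Fin m) (Fin m) F} (h : Sim M N) (h' : Sim M' N) :
    ∃ Z : GL (Fin m) F, (Z : Matrix (Fin m) (Fin m) F) * M = M' * Z := by
  obtain ⟨A, hA, hMA⟩ := h
  obtain ⟨B, hB, hMB⟩ := h'
  have hA' : A * A⁻¹ = 1 := Matrix.mul_nonsing_inv A hA
  have hA'' : A⁻¹ * A = 1 := Matrix.nonsing_inv_mul A hA
  refine ⟨((Matrix.isUnit_iff_isUnit_det B).2 hB).unit * ((Matrix.isUnit_iff_isUnit_det A).2 hA).unit⁻¹, ?_⟩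
  rw [Units.val_mul, Matrix.coe_units_inv]
  show B * A⁻¹ * M = M' * (B * A⁻¹)
  have h1 : A⁻¹ * M = N * A⁻¹ := by
    calc A⁻¹ * M = A⁻¹ * M * (A * A⁻¹) := by rw [hA', mul_one]
      _ = A⁻¹ * (M * A) * A⁻¹ := by simp only [mul_assoc]
      _ = _ := by rw [hMA, ← mul_assoc, hA'', one_mul]
  rw [mul_assoc B, h1, ← mul_assoc, ← mul_assoc, hMB]

theorem sim_of_conj {m : ℕ} {M M' N : Matrix (Fin m) (Fin m) F} {Z Z' : Matrix (Fin m) (Fin m) F}
    (hZ : Z' * Z = 1) (h : Sim M N) (e : M' = Z * M * Z') : Sim M' N := by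
  obtain ⟨A, hA, hMA⟩ := h
  refine ⟨Z * A, ?_, ?_⟩
  · rw [det_mul]
    exact (IsUnit.of_mul_eq_one _ (by rw [← det_mul, mul_eq_one_comm.1 hZ, det_one] :
      Z.det * Z'.det = 1)).mul hA
  · rw [e, mul_assoc, ← mul_assoc Z', hZ, one_mul, mul_assoc Z M, hMA, ← mul_assoc]

theorem ru_upper {m : ℕ} {U : Matrix (Fin m) (Fin m) F} (hz : ∀ i j : Fin m, j < i → U i j = 0)
    (hd : ∀ i, U i i = 1) (hn : ∀ i j : Fin m, i.val + 1 = j.val → U i j ≠ 0) : RU U :=
  up_similar (runs_one m) hz hd fun i j h _ => hn i j h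

theorem ru_lower {m : ℕ} {L : Matrix (Fin m) (Fin m) F} (hz : ∀ i j : Fin m, i < j → L i j = 0)
    (hd : ∀ i, L i i = 1) (hn : ∀ i j : Fin m, j.val + 1 = i.val → L i j ≠ 0) : RU L :=
  lo_similar (runs_one m) hz hd fun i j h _ => hn i j h

theorem ru_inv {m : ℕ} {M M' : Matrix (Fin m) (Fin m) F} (h : RU M) (e : M' * M = 1) : RU M' := by
  classical
  set U : Matrix (Fin m) (Fin m) F := Matrix.of fun i j => if i = j ∨ i.val + 1 = j.val then 1 else 0 with hU
  have hz : ∀ i j : Fin m, j < i → U i j = 0 := fun i j hij => by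
    have h' : j.val < i.val := hij
    simp [hU, hij.ne', show ¬ i.val + 1 = j.val by omega]
  have hd : ∀ i, U i i = 1 := fun i => by simp [hU]
  have hn : ∀ i j : Fin m, i.val + 1 = j.val → U i j = 1 := fun i j hij => by simp [hU, hij]
  obtain ⟨Y, hUY, hYU, hYz, hYd, hYn⟩ := up_inv (γ := fun _ => (1 : F)) (fun _ => one_ne_zero) hz hd
  have hY : RU Y := ru_upper hYz (fun i => by rw [hYd, inv_one]) fun i j hij => by
    rw [hYn i j hij, hn i j hij]; simp
  obtain ⟨Z, hZ⟩ := sim_conj h (ru_upper hz hd fun i j hij => by rw [hn i j hij]; exact one_ne_zero)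
  -- `U = Z M Z⁻¹`, so `M' = Z⁻¹ U⁻¹ Z`
  refine sim_of_conj (Z := (↑Z⁻¹ : Matrix (Fin m) (Fin m) F)) (Z' := Z) (Units.mul_inv Z) hY ?_
  calc M' = M' * ((↑Z⁻¹ : Matrix (Fin m) (Fin m) F) * U * Z) * ((↑Z⁻¹ : Matrix (Fin m) (Fin m) F) * Y * Z) := by
        simp only [mul_assoc, Units.mul_inv_cancel_left]
        rw [← mul_assoc U, hUY, one_mul, Units.inv_mul, mul_one]
    _ = _ := by
        have hU' : (↑Z⁻¹ : Matrix (Fin m) (Fin m) F) * U * Z = M := by
          rw [mul_assoc, ← hZ, ← mul_assoc, Units.inv_mul, one_mul]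
        rw [hU', e, one_mul]

/-- `diag(d, 1, …, 1)` as a family. -/
def first {m : ℕ} [NeZero m] (d : Fˣ) : Fin m → Fˣ := Pi.mulSingle 0 d

/-- Conjugation of `SL` by a diagonal matrix. -/
def diagConj {m : ℕ} (v : Fin m → Fˣ) : SpecialLinearGroup (Fin m) F →* SpecialLinearGroup (Fin m) F where
  toFun S := ⟨diagonal (fun i => (v i : F)) * S.1 * diagonal fun i => (((v i)⁻¹ : Fˣ) : F), by
    rw [det_mul, det_mul, S.2, mul_one, ← det_mul, diagonal_mul_diagonal]
    simp⟩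
  map_one' := by
    refine Subtype.ext ?_
    show diagonal _ * (1 : Matrix (Fin m) (Fin m) F) * diagonal _ = 1
    rw [mul_one, diagonal_mul_diagonal]; simp
  map_mul' S R := by
    refine Subtype.ext ?_
    show diagonal (fun i => (v i : F)) * (S.1 * R.1) * diagonal _ =
      diagonal (fun i => (v i : F)) * S.1 * diagonal (fun i => (((v i)⁻¹ : Fˣ) : F)) *
        (diagonal (fun i => (v i : F)) * R.1 * diagonal (fun i => (((v i)⁻¹ : Fˣ) : F)))
    have e : diagonal (fun i => (((v i)⁻¹ : Fˣ) : F)) * diagonal (fun i => (v i : F)) = 1 := by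
      rw [diagonal_mul_diagonal]; simp
    simp only [mul_assoc]
    rw [← mul_assoc (diagonal fun i => (((v i)⁻¹ : Fˣ) : F)) (diagonal fun i => (v i : F)), e, one_mul]

theorem diagConj_val {m : ℕ} (v : Fin m → Fˣ) (S : SpecialLinearGroup (Fin m) F) (i j : Fin m) :
    (diagConj v S).1 i j = (v i : F) * S.1 i j * ((v j)⁻¹ : Fˣ) := by
  show (diagonal (fun i => (v i : F)) * S.1 * diagonal (fun i => (((v i)⁻¹ : Fˣ) : F))) i j = _
  rw [mul_diagonal, diagonal_mul]

theorem diagConj_trv {m : ℕ} (v : Fin m → Fˣ) {i j : Fin m} (h : i ≠ j) (t : F) :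
    diagConj v (trv m F i j t) = trv m F i j ((v i : F) * ((v j)⁻¹ : Fˣ) * t) := by
  refine Subtype.ext (Matrix.ext fun a b => ?_)
  rw [diagConj_val]
  simp only [trv, dif_pos h, SpecialLinearGroup.transvection_coe, Matrix.add_apply, Matrix.one_apply,
    Matrix.single_apply]
  split_ifs with h1 h2 h2
  · exact absurd (h2.1.trans (h1.trans h2.2.symm)) h
  · subst h1; simp
  · obtain ⟨rfl, rfl⟩ := h2; ring
  · simp

/-- Regular unipotent elements are conjugate in `SL` up to one diagonal conjugation. -/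
theorem ru_conj {m : ℕ} [NeZero m] {M M' : SpecialLinearGroup (Fin m) F} (h : RU M.1) (h' : RU M'.1) :
    ∃ (S : SpecialLinearGroup (Fin m) F) (d : Fˣ), M' = S * diagConj (first d) M * S⁻¹ := by
  obtain ⟨Z, hZ⟩ := sim_conj h h'
  set d := GeneralLinearGroup.det Z with hd
  have hdiag : (Z : Matrix (Fin m) (Fin m) F) * diagonal (fun i => (((first (m := m) d i)⁻¹ : Fˣ) : F)) *
      diagonal (fun i => ((first (m := m) d i : Fˣ) : F)) = Z := by
    rw [mul_assoc, diagonal_mul_diagonal]; simp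
  have hprod : ∏ i, (((first (m := m) d i)⁻¹ : Fˣ) : F) = ((d⁻¹ : Fˣ) : F) := by
    rw [Finset.prod_eq_single (0 : Fin m)]
    · simp [first]
    · intro b _ hb; simp [first, hb]
    · simp
  refine ⟨⟨(Z : Matrix (Fin m) (Fin m) F) * diagonal fun i => (((first (m := m) d i)⁻¹ : Fˣ) : F), ?_⟩, d,
    eq_mul_inv_of_mul_eq (Subtype.ext ?_)⟩
  · rw [det_mul, det_diagonal, hprod, ← GeneralLinearGroup.val_det_apply, ← hd, Units.mul_inv]
  · show M'.1 * ((Z : Matrix (Fin m) (Fin m) F) * _) =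
      (Z : Matrix (Fin m) (Fin m) F) * _ * (diagonal _ * M.1 * diagonal _)
    simp only [← mul_assoc]
    rw [hdiag, hZ]

/-- Every non-scalar element is a product of two regular unipotent ones. -/
theorem split_ru (h4 : Four F) {n : ℕ} (hn : 1 ≤ n) (A : SpecialLinearGroup (Fin (n + 2)) F)
    (hA : ∀ c : F, A.1 ≠ c • 1) :
    ∃ X Y : SpecialLinearGroup (Fin (n + 2)) F, RU X.1 ∧ RU Y.1 ∧ A = X * Y := by
  obtain ⟨P, P', X, Y, Y', hPP, hPAP, hYY, hXd, hX, hY'⟩ :=
    split_of_not_scalar h4 A.2 hA (β := fun _ => (1 : F)) (fun _ => one_ne_zero) (runs_one _) (Or.inr hn)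
  have hPP' : P * P' = 1 := mul_eq_one_comm.1 hPP
  have hYr : RU Y := ru_inv hY' hYY
  have hXd' : X.det = 1 := by rw [hXd]; simp
  have hYd : Y.det = 1 := by
    have := congrArg Matrix.det hPAP
    rw [det_mul, det_mul, det_mul, A.2, mul_one, hXd', one_mul, ← det_mul, hPP, det_one] at this
    exact this.symm
  have hd : ∀ M : Matrix (Fin (n + 2)) (Fin (n + 2)) F, (P * M * P').det = M.det := fun M => by
    rw [det_mul, det_mul, mul_comm P.det, mul_assoc, ← det_mul, hPP', det_one, mul_one]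
  refine ⟨⟨P * X * P', by rw [hd, hXd']⟩, ⟨P * Y * P', by rw [hd, hYd]⟩,
    sim_of_conj hPP hX rfl, sim_of_conj hPP hYr rfl, Subtype.ext ?_⟩
  show A.1 = P * X * P' * (P * Y * P')
  calc A.1 = P * (P' * A.1 * P) * P' := by
        simp only [← mul_assoc]; rw [hPP', one_mul, mul_assoc, hPP', mul_one]
    _ = _ := by rw [hPAP]; simp only [mul_assoc]; rw [← mul_assoc P' P, hPP, one_mul]

/-- A subgroup containing the adjacent transvections is everything. -/
theorem adj_top [Finite F] {m : ℕ} (M : Subgroup (SpecialLinearGroup (Fin m) F))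
    (h : ∀ (i : ℕ) (hi : i + 1 < m) (t : F),
      trv m F ⟨i, by omega⟩ ⟨i + 1, hi⟩ t ∈ M ∧ trv m F ⟨i + 1, hi⟩ ⟨i, by omega⟩ t ∈ M) : M = ⊤ := by
  have all := Cfsg.Agent.Lib.CTRecog.Chain.interval_induction (lo := 0) (hi := m)
    (p := fun a b => ∀ (ha : a < m) (hb : b < m) (t : F), trv m F ⟨a, ha⟩ ⟨b, hb⟩ t ∈ M)
    (fun i _ hi => ⟨fun _ _ t => (h i hi t).1, fun _ _ t => (h i hi t).2⟩)
    (fun a c b _ _ _ _ _ hc hac hcb hab h1 h2 ha hb t => by
      have e := (trv_rel (F := F) m).chain ⟨a, ha⟩ ⟨c, hc⟩ ⟨b, hb⟩ (by simpa [Fin.ext_iff] using hac)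
        (by simpa [Fin.ext_iff] using hcb) (by simpa [Fin.ext_iff] using hab) t 1
      rw [mul_one] at e
      rw [Cfsg.Agent.Lib.CTRecog.Chain.chain_solve e]
      exact mul_mem (mul_mem (mul_mem (h1 _ _ _) (h2 _ _ _)) (inv_mem (h1 _ _ _))) (inv_mem (h2 _ _ _)))
  refine Cfsg.Agent.Lib.Linear.sl_eq_top_of_transvection_mem M fun i j hij t => ?_
  have := all i.val j.val (Nat.zero_le _) i.isLt (Nat.zero_le _) j.isLt (Fin.val_ne_of_ne hij) i.isLt j.isLt t
  simpa [trv, hij] using this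

end Cfsg.Agent.Lib.ThompsonSquare
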