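import Cfsg.Agent.Lib.ThompsonSquare.Move
import Cfsg.Agent.Lib.ThompsonSquare.RegUni
import Cfsg.Agent.Lib.CTRecog.TypeA

/-!
The homomorphism of a special linear group onto the subgroup of a chain of fundamental roots.
-/

set_option autoImplicit false
set_option linter.unusedSectionVars false

namespace Cfsg.Agent.Lib.ThompsonSquare

open Cfsg.Lie Cfsg.Agent.Lib.ChevStructure
open Cfsg.Agent.Lib.CTRecog (slPhi slPhi_U slPhi_range pairB farB exists_pairCover upper lower)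
open Cfsg.Agent.Lib.Schur.SteinbergSLn (trv)
open scoped MatrixGroups Matrix

variable {D : ChevalleyDatum}

/-- A chain of fundamental roots, checked by computation. -/
structure Chain' (C : Core D) where
  /-- one less than the length -/
  n : ℕ
  pos : 1 ≤ n
  /-- the nodes -/
  f : Fin (n + 1) → Fin D.rank
  pairs : ∀ i : Fin n, pairB (C.p (f i.castSucc)) (C.p (f i.succ)) = true
  far : ∀ i j : Fin (n + 1), i.val + 2 ≤ j.val → farB (C.p (f i)) (C.p (f j)) = true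

/-- The nodes as a set. -/
def Chain'.J {C : Core D} (K : Chain' C) : Set ℕ := Set.range fun i => (K.f i).val

variable {C : Core D} (H : CommOK C) {F : Type*} [Field F] [Fintype F]

theorem commute_far {p q : Rt D} (H : CommOK C) (h : farB p q = true) (x y : Matrix.SpecialLinearGroup (Fin 2) F) :
    slPhi C p x * slPhi C q y = slPhi C q y * slPhi C p x := by
  simp only [farB, List.all_cons, List.all_nil, Bool.and_true, Bool.and_eq_true, Bool.not_eq_true',
    decide_eq_false_iff_not, decide_eq_true_eq] at h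
  obtain ⟨⟨⟨a1, a2⟩, a3⟩, ⟨⟨b1, b2⟩, b3⟩, ⟨⟨c1, c2⟩, c3⟩, ⟨d1, d2⟩, d3⟩ := h
  have comm : ∀ r, r = p ∨ r = p.rev → ∀ s, s = q ∨ s = q.rev → ∀ u t : F,
      Commute (C.X F r u) (C.X F s t) := by
    rintro r (rfl | rfl) s (rfl | rfl) u t
    · exact Cfsg.Agent.Lib.CTRecog.commute_of_terms C H a1 a2 a3 u t
    · exact Cfsg.Agent.Lib.CTRecog.commute_of_terms C H b1 b2 b3 u t
    · exact Cfsg.Agent.Lib.CTRecog.commute_of_terms C H c1 c2 c3 u t
    · exact Cfsg.Agent.Lib.CTRecog.commute_of_terms C H d1 d2 d3 u t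
  have h1 : ∀ z, z = p ∨ z = p.rev → ∀ u : F,
      C.US F {q} ⊔ C.US F {q.rev} ≤ Subgroup.centralizer {C.X F z u} := by
    intro z hz u
    refine sup_le ((Subgroup.closure_le _).2 ?_) ((Subgroup.closure_le _).2 ?_) <;> rintro g ⟨s, rfl, t, rfl⟩
    · exact Subgroup.mem_centralizer_singleton_iff.2 (comm z hz _ (Or.inl rfl) u t).eq.symm
    · exact Subgroup.mem_centralizer_singleton_iff.2 (comm z hz _ (Or.inr rfl) u t).eq.symm
  have hy : slPhi C q y ∈ C.US F {q} ⊔ C.US F {q.rev} := by rw [← slPhi_range]; exact ⟨y, rfl⟩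
  have h2 : C.US F {p} ⊔ C.US F {p.rev} ≤ Subgroup.centralizer {slPhi C q y} := by
    refine sup_le ((Subgroup.closure_le _).2 ?_) ((Subgroup.closure_le _).2 ?_) <;> rintro g ⟨s, rfl, t, rfl⟩
    · exact Subgroup.mem_centralizer_singleton_iff.2
        (Subgroup.mem_centralizer_singleton_iff.1 (h1 _ (Or.inl rfl) t hy)).symm
    · exact Subgroup.mem_centralizer_singleton_iff.2
        (Subgroup.mem_centralizer_singleton_iff.1 (h1 _ (Or.inr rfl) t hy)).symm
  have hx : slPhi C p x ∈ C.US F {p} ⊔ C.US F {p.rev} := by rw [← slPhi_range]; exact ⟨x, rfl⟩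
  exact Subgroup.mem_centralizer_singleton_iff.1 (h2 hx)

/-- The defining property of the homomorphism of a chain. -/
def IsChainHom (C : Core D) (K : Chain' C) (ρ : Matrix.SpecialLinearGroup (Fin (K.n + 2)) F →* GL D.Idx F) : Prop :=
  ∀ (i : Fin (K.n + 1)) (t : F),
    ρ (trv (K.n + 2) F i.castSucc i.succ t) = C.X F (C.p (K.f i)) t ∧
      ρ (trv (K.n + 2) F i.succ i.castSucc t) = C.X F (C.p (K.f i)).rev t

include H in
theorem exists_chainHom (K : Chain' C) :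
    ∃ ρ : Matrix.SpecialLinearGroup (Fin (K.n + 2)) F →* GL D.Idx F, IsChainHom C K ρ := by
  classical
  let ψ : ℕ → Matrix.SpecialLinearGroup (Fin 2) F →* GL D.Idx F := fun i =>
    if h : i < K.n + 1 then slPhi C (C.p (K.f ⟨i, h⟩)) else 1
  have hψ : ∀ i (h : i < K.n + 1), ψ i = slPhi C (C.p (K.f ⟨i, h⟩)) := fun i h => dif_pos h
  obtain ⟨ρ, hρ⟩ := Cfsg.Agent.Lib.CTRecog.Chain.exists_hom (m := K.n + 2) (by have := K.pos; omega) ψ
    (fun i hi => by
      obtain ⟨θ, -, hu, hl, -⟩ := exists_pairCover C H (K := F) (K.pairs ⟨i, by omega⟩)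
      refine ⟨θ, fun t => ?_⟩
      have e1 : ψ i = θ.comp upper := by rw [hu, hψ i (by omega)]; rfl
      have e2 : ψ (i + 1) = θ.comp lower := by rw [hl, hψ (i + 1) (by omega)]; rfl
      rw [e1, e2]
      exact ⟨by rw [MonoidHom.comp_apply, Cfsg.Agent.Lib.CTRecog.upper_tU],
        by rw [MonoidHom.comp_apply, Cfsg.Agent.Lib.CTRecog.upper_tL],
        by rw [MonoidHom.comp_apply, Cfsg.Agent.Lib.CTRecog.lower_tU],
        by rw [MonoidHom.comp_apply, Cfsg.Agent.Lib.CTRecog.lower_tL]⟩)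
    (fun i j hij hj x y => by
      rw [hψ i (by omega), hψ j (by omega)]
      exact commute_far H (K.far ⟨i, by omega⟩ ⟨j, by omega⟩ hij) x y)
  refine ⟨ρ, fun i t => ?_⟩
  obtain ⟨h1, h2⟩ := hρ i.val (by omega) t
  rw [show Cfsg.Agent.Lib.CTRecog.Chain.tU t = slU t from Cfsg.Agent.Lib.CTRecog.transvection_eq_slU t,
    hψ i.val i.isLt, (slPhi_U C _ t).1] at h1
  rw [show Cfsg.Agent.Lib.CTRecog.Chain.tL t = slL t from Cfsg.Agent.Lib.CTRecog.transvection_eq_slL t,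
    hψ i.val i.isLt, (slPhi_U C _ t).2] at h2
  exact ⟨h1, h2⟩

variable {K : Chain' C} {ρ : Matrix.SpecialLinearGroup (Fin (K.n + 2)) F →* GL D.Idx F}

/-- Everything about the range follows from the generators. -/
theorem range_le_of_roots (hρ : IsChainHom C K ρ) {M : Subgroup (GL D.Idx F)}
    (h : ∀ i t, C.X F (C.p (K.f i)) t ∈ M ∧ C.X F (C.p (K.f i)).rev t ∈ M) : ρ.range ≤ M := by
  rintro _ ⟨S, rfl⟩
  have := adj_top (M.comap ρ) fun i hi t => by
    obtain ⟨h1, h2⟩ := hρ ⟨i, by omega⟩ t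
    constructor
    · show ρ (trv (K.n + 2) F (⟨i, by omega⟩ : Fin (K.n + 1)).castSucc (⟨i, by omega⟩ : Fin (K.n + 1)).succ t) ∈ M
      rw [h1]; exact (h _ t).1
    · show ρ (trv (K.n + 2) F (⟨i, by omega⟩ : Fin (K.n + 1)).succ (⟨i, by omega⟩ : Fin (K.n + 1)).castSucc t) ∈ M
      rw [h2]; exact (h _ t).2
  exact this.ge (Subgroup.mem_top S)

theorem range_le_US (hρ : IsChainHom C K ρ) : ρ.range ≤ C.US F (C.PJ K.J) :=
  range_le_of_roots hρ fun i t =>
    have h : (K.f i : ℕ) ∈ K.J := Set.mem_range_self i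
    ⟨C.X_mem_US F (C.p_mem_PJ h) t, C.X_mem_US F (C.PJ_rev (C.p_mem_PJ h)) t⟩

theorem P_mem_range (hρ : IsChainHom C K ρ) (i : Fin (K.n + 1)) : C.P F (K.f i) ∈ ρ.range := by
  rw [Core.P, Core.nR, ← (hρ i _).1, ← (hρ i _).2, ← map_mul, ← map_mul]
  exact MonoidHom.mem_range.2 ⟨_, rfl⟩

theorem US_le_range (hρ : IsChainHom C K ρ) : C.US F (C.PJ K.J) ≤ ρ.range := by
  have key : ∀ s ∈ C.Pos, s ∈ C.PJ K.J → ∀ t : F, C.X F s t ∈ ρ.range ∧ C.X F s.rev t ∈ ρ.range := by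
    refine C.ind_PJ (fun s => ∀ t : F, C.X F s t ∈ ρ.range ∧ C.X F s.rev t ∈ ρ.range) (fun j hj t => ?_) ?_
    · obtain ⟨i, hi⟩ := hj
      obtain rfl : K.f i = j := Fin.ext hi
      exact ⟨⟨_, (hρ i t).1⟩, ⟨_, (hρ i t).2⟩⟩
    · intro j s hj _ _ _ _ _ ih t
      obtain ⟨i, hi⟩ := hj
      obtain rfl : K.f i = j := Fin.ext hi
      have hP := P_mem_range hρ i
      have e : ∀ r : Rt D, C.X F (C.w (K.f i) r) t =
          C.P F (K.f i) * C.X F r ((C.η (K.f i) r : F) * t) * (C.P F (K.f i))⁻¹ := fun r => by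
        rw [C.P_X_conj, ← mul_assoc, ← Int.cast_mul, C.η_mul_self, Int.cast_one, one_mul]
      refine ⟨?_, ?_⟩
      · rw [e]; exact mul_mem (mul_mem hP (ih _).1) (inv_mem hP)
      · rw [← C.w_rev, e]; exact mul_mem (mul_mem hP (ih _).2) (inv_mem hP)
  refine (Subgroup.closure_le _).2 ?_
  rintro g ⟨r, hr, t, rfl⟩
  by_cases hp : r ∈ C.Pos
  · exact (key r hp hr t).1
  · have := (key r.rev (C.rev_pos ((C.neg_iff_not_pos r).2 hp)) (C.PJ_rev hr) t).2
    rwa [C.rev_rev] at this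

/-- Torus elements act by diagonal conjugation. -/
theorem HT_rho (hρ : IsChainHom C K ρ) (c : Fin D.rank → Fˣ) (v : Fin (K.n + 2) → Fˣ)
    (hv : ∀ i, C.chA c (C.p (K.f i)) = v i.castSucc * (v i.succ)⁻¹) (S : Matrix.SpecialLinearGroup (Fin (K.n + 2)) F) :
    C.HT F c * ρ S * (C.HT F c)⁻¹ = ρ (diagConj v S) := by
  have h := adj_top ((MulAut.conj (C.HT F c)).toMonoidHom.comp ρ |>.eqLocus (ρ.comp (diagConj v))) fun i hi t => by
    obtain ⟨h1, h2⟩ := hρ ⟨i, by omega⟩ t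
    have hne : (⟨i, by omega⟩ : Fin (K.n + 2)) ≠ ⟨i + 1, hi⟩ := by simp [Fin.ext_iff]
    constructor
    · show C.HT F c * ρ (trv (K.n + 2) F (⟨i, by omega⟩ : Fin (K.n + 1)).castSucc
          (⟨i, by omega⟩ : Fin (K.n + 1)).succ t) * (C.HT F c)⁻¹ = ρ (diagConj v _)
      rw [h1, C.HT_X_conj, diagConj_trv v hne]
      refine Eq.trans ?_ (hρ ⟨i, by omega⟩ _).1.symm
      rw [hv, Units.val_mul]
      rfl
    · show C.HT F c * ρ (trv (K.n + 2) F (⟨i, by omega⟩ : Fin (K.n + 1)).succ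
          (⟨i, by omega⟩ : Fin (K.n + 1)).castSucc t) * (C.HT F c)⁻¹ = ρ (diagConj v _)
      rw [h2, C.HT_X_conj, diagConj_trv v hne.symm]
      refine Eq.trans ?_ (hρ ⟨i, by omega⟩ _).2.symm
      congr 2
      rw [show C.chA c (C.p (K.f ⟨i, by omega⟩)).rev = (C.chA c (C.p (K.f ⟨i, by omega⟩)))⁻¹ by
        simp only [Core.chA, C.A_rev, zpow_neg, Finset.prod_inv_distrib], hv, _root_.mul_inv_rev, inv_inv,
        Units.val_mul]
      rfl
  have h' : S ∈ MonoidHom.eqLocus _ _ := h.ge (Subgroup.mem_top S)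
  exact h'

end Cfsg.Agent.Lib.ThompsonSquare
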