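import Cfsg.Agent.Lib.ThompsonSquare.Inst
import Cfsg.Agent.S2461

/-!
Thompson's statement for the split exceptional groups.
-/

set_option autoImplicit false

namespace Cfsg.Agent.Lib.ThompsonSquare

open Cfsg.Lie Cfsg.Agent.Lib.ChevStructure

/-- Some class squares to the whole group. -/
def ClassSquare (G : Type*) [Group G] : Prop :=
  ∃ c : G, ∀ g : G, ∃ x y : G, g = (x * c * x⁻¹) * (y * c * y⁻¹)

theorem classSquare_of_equiv {G H : Type*} [Group G] [Group H] (e : G ≃* H) (h : ClassSquare H) :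
    ClassSquare G := by
  obtain ⟨c, hc⟩ := h
  refine ⟨e.symm c, fun g => ?_⟩
  obtain ⟨x, y, hxy⟩ := hc (e g)
  exact ⟨e.symm x, e.symm y, e.injective (by simp [hxy])⟩

variable {F : Type*} [Field F] [Fintype F]

theorem exists_large_order (h9 : 9 ≤ Fintype.card F) : ∃ g : Fˣ, ∀ k : ℤ, 1 ≤ k → k ≤ 7 → g ^ k ≠ 1 := by
  classical
  obtain ⟨g, hg⟩ := IsCyclic.exists_generator (α := Fˣ)
  refine ⟨g, fun k h1 h7 hk => ?_⟩
  have ho : orderOf g = Fintype.card F - 1 := by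
    rw [orderOf_eq_card_of_forall_mem_zpowers hg, Nat.card_eq_fintype_card, Fintype.card_units]
  have := Int.le_of_dvd (by omega) (orderOf_dvd_iff_zpow_eq_one.2 hk)
  omega

theorem classSquare_plan (h9 : 9 ≤ Fintype.card F) {D : ChevalleyDatum} {C : Core D} (P : Plan C) (H : CommOK C) :
    ClassSquare ↥(D.group F) := by
  obtain ⟨g, hg⟩ := exists_large_order h9
  obtain ⟨c, hc, h⟩ := covers P H hg h9
  refine ⟨⟨c, hc⟩, fun x => ?_⟩
  obtain ⟨a, ha, b, hb, e⟩ := h x.1 x.2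
  exact ⟨⟨a, ha⟩, ⟨b, hb⟩, Subtype.ext e⟩

theorem classSquare_F4 (h9 : 9 ≤ Fintype.card F) : ClassSquare ↥(chevF4.group F) :=
  classSquare_plan h9 F4.plan (Cert.F4.core.commOK_mild mildF4)

theorem classSquare_E6 (h9 : 9 ≤ Fintype.card F) : ClassSquare ↥(chevE6.group F) :=
  classSquare_plan h9 E6.plan (Cert.E6.core.commOK_mild mildE6)

theorem classSquare_E7 (h9 : 9 ≤ Fintype.card F) : ClassSquare ↥(chevE7.group F) :=
  classSquare_plan h9 E7.plan (Cert.E7.core.commOK_mild mildE7)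

theorem classSquare_E8 (h9 : 9 ≤ Fintype.card F) : ClassSquare ↥(chevE8.group F) :=
  classSquare_plan h9 E8.plan (Cert.E8.core.commOK_mild mildE8)

theorem classSquare_G2 (h9 : 9 ≤ Fintype.card F) : ClassSquare ↥(chevG2.group F) := by
  classical
  obtain ⟨a, ν, ha, hν, hirr⟩ := Cfsg.Agent.S2461.exists_coeffs (F := F) (by omega)
  have hν0 : ν ≠ 0 := fun e => hirr 0 (by rw [e]; ring)
  obtain ⟨A, hA⟩ := Cfsg.Agent.Lib.PSp4Class.exists_GL
    (show (Cfsg.Agent.Lib.PSp4Class.cmp a ν).det ≠ 0 by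
      rw [Cfsg.Agent.Lib.PSp4Class.cmp, Matrix.det_fin_two_of]; simpa)
  have htr : A.1.trace = a := by rw [hA, Cfsg.Agent.Lib.PSp4Class.cmp, Matrix.trace_fin_two_of, zero_add]
  have hdet : A.1.det = ν := by rw [hA, Cfsg.Agent.Lib.PSp4Class.cmp, Matrix.det_fin_two_of]; ring
  have hI : Cfsg.Agent.Lib.G2Gauss.Irred A := by
    rw [Cfsg.Agent.Lib.G2Gauss.Irred, htr, hdet]; exact hirr
  refine ⟨⟨_, Cfsg.Agent.Lib.G2Gauss.psi_mem A⟩, fun g => ?_⟩
  obtain ⟨P, hP, Q, hQ, e⟩ := Cfsg.Agent.Lib.G2Gauss.two_conj (by omega) hI (htr ▸ ha) (hdet ▸ hν) g.2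
  exact ⟨⟨P, hP⟩, ⟨Q, hQ⟩, Subtype.ext e⟩

end Cfsg.Agent.Lib.ThompsonSquare
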