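import Cfsg.Agent.Lib.ThompsonSquare.Cyclic
import Cfsg.Agent.Lib.ThompsonSquare.Exceptional

/-!
Thompson's statement for `PSL_n`, and choices of units in large fields.
-/

set_option autoImplicit false

namespace Cfsg.Agent.Lib.ThompsonSquare

open Cfsg.Agent.Lib.Sourour
open Matrix (SpecialLinearGroup det_smul det_one scalar_apply smul_one_eq_diagonal)

variable {F : Type*} [Field F] [Fintype F]

theorem exists_unit_ne_one (h9 : 9 ≤ Fintype.card F) : ∃ g : Fˣ, g ≠ 1 ∧ g * g ≠ 1 := by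
  obtain ⟨g, hg⟩ := exists_large_order h9
  exact ⟨g, fun h => hg 1 le_rfl (by omega) (by simp [h]),
    fun h => hg 2 (by omega) (by omega) (by rw [zpow_two]; exact h)⟩

theorem four_of_nine (h9 : 9 ≤ Fintype.card F) : Four F := four_of_fintype (by omega)

theorem classSquare_PSL (h9 : 9 ≤ Fintype.card F) {n : ℕ} (hn : 2 ≤ n) :
    ClassSquare (Matrix.ProjectiveSpecialLinearGroup (Fin n) F) := by
  classical
  obtain ⟨k, rfl⟩ : ∃ k, n = k + 2 := ⟨n - 2, by omega⟩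
  obtain ⟨b, hb1, hb2⟩ := exists_unit_ne_one h9
  let c₀ : SpecialLinearGroup (Fin (k + 2)) F := ⟨cyN k b, det_cyN b⟩
  have hc₀ : CY b c₀.1 := sim_refl _
  have conj : ∀ X : SpecialLinearGroup (Fin (k + 2)) F, CY b X.1 → ∃ S, X = S * c₀ * S⁻¹ := by
    intro X hX
    obtain ⟨S, hS⟩ := cy_conj hc₀ hX
    refine ⟨S, eq_mul_inv_iff_mul_eq.2 ?_⟩
    exact Subtype.ext hS
  refine ⟨(c₀ : Matrix.ProjectiveSpecialLinearGroup (Fin (k + 2)) F), fun g => ?_⟩
  obtain ⟨A, rfl⟩ := QuotientGroup.mk_surjective g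
  by_cases hA : ∀ c : F, A.1 ≠ c • 1
  · obtain ⟨X, Y, hX, hY, e⟩ := split_cy (four_of_nine h9) hb1 hb2 A.2 hA
    obtain ⟨S, rfl⟩ := conj X hX
    obtain ⟨T, rfl⟩ := conj Y hY
    refine ⟨S, T, ?_⟩
    rw [show A = S * c₀ * S⁻¹ * (T * c₀ * T⁻¹) from Subtype.ext e]
    rfl
  · push Not at hA
    obtain ⟨r, hr⟩ := hA
    obtain ⟨T, hT⟩ := conj c₀⁻¹ (cy_inv hb1 hb2 hc₀ ((Matrix.SpecialLinearGroup.coe_mul c₀⁻¹ c₀).symm.trans (by rw [inv_mul_cancel]; rfl)))
    refine ⟨1, T, ?_⟩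
    have hA1 : A ∈ Subgroup.center (SpecialLinearGroup (Fin (k + 2)) F) := by
      refine Matrix.SpecialLinearGroup.mem_center_iff.2 ⟨r, ?_, ?_⟩
      · have h := A.2
        rw [hr, det_smul, det_one, mul_one] at h
        simpa using h
      · rw [hr, scalar_apply, ← smul_one_eq_diagonal]
    rw [(QuotientGroup.eq_one_iff A).2 hA1]
    have e : (1 : SpecialLinearGroup (Fin (k + 2)) F) = 1 * c₀ * 1⁻¹ * (T * c₀ * T⁻¹) := by
      rw [← hT]; simp
    exact congrArg QuotientGroup.mk e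

end Cfsg.Agent.Lib.ThompsonSquare
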