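import Mathlib

/-!
A non-scalar 2 × 2 matrix is conjugate by SL₂ to one with any prescribed corner.
-/

set_option autoImplicit false

namespace Cfsg.Agent.Lib.ThompsonSquare

open Matrix

variable {F : Type*} [Field F]

theorem exists_vec_two {N : Matrix (Fin 2) (Fin 2) F} (hN : N 0 1 ≠ 0 ∨ N 1 0 ≠ 0 ∨ N 0 0 ≠ N 1 1) :
    ∃ x y : F, x * (N 1 0 * x + N 1 1 * y) - y * (N 0 0 * x + N 0 1 * y) ≠ 0 := by
  by_contra h
  simp only [not_exists, not_not] at h
  have h1 := h 1 0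
  have h2 := h 0 1
  have h3 := h 1 1
  simp at h1 h2 h3
  rcases hN with e | e | e
  · exact e h2
  · exact e h1
  · exact e (by rw [h1, h2] at h3; linear_combination -h3)

theorem exists_corner {N : Matrix (Fin 2) (Fin 2) F} (hN : N 0 1 ≠ 0 ∨ N 1 0 ≠ 0 ∨ N 0 0 ≠ N 1 1) (r : F) :
    ∃ S : SpecialLinearGroup (Fin 2) F, ((S : Matrix (Fin 2) (Fin 2) F) * N * (S⁻¹ : SpecialLinearGroup (Fin 2) F)) 0 0 = r := by
  obtain ⟨x, y, hd⟩ := exists_vec_two hN
  set u := N 0 0 * x + N 0 1 * y with hu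
  set w := N 1 0 * x + N 1 1 * y with hw
  set l := (x * w - y * u)⁻¹ with hl
  -- `S⁻¹` has columns `e` and `l (N e - r e)`
  let P : SpecialLinearGroup (Fin 2) F := ⟨!![x, l * (u - r * x); y, l * (w - r * y)], by
    rw [Matrix.det_fin_two_of, hl]
    field_simp
    ring⟩
  refine ⟨P⁻¹, ?_⟩
  rw [inv_inv]
  have hP : ((P⁻¹ : SpecialLinearGroup (Fin 2) F) : Matrix (Fin 2) (Fin 2) F) =
      !![l * (w - r * y), -(l * (u - r * x)); -y, x] := by
    show adjugate P.1 = _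
    rw [adjugate_fin_two]
    simp [P]
  have h1 : ((N * (P : Matrix (Fin 2) (Fin 2) F)) 0 0 = u) ∧ (N * (P : Matrix (Fin 2) (Fin 2) F)) 1 0 = w := by
    simp [P, Matrix.mul_apply, Fin.sum_univ_two, hu, hw]
  rw [mul_assoc, Matrix.mul_apply, Fin.sum_univ_two, h1.1, h1.2, hP]
  simp only [of_apply, cons_val', cons_val_zero, cons_val_one, cons_val_fin_one]
  rw [hl]
  field_simp
  ring

end Cfsg.Agent.Lib.ThompsonSquare
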