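import Cfsg.Agent.Lib.ThompsonSquare.RegUni

/-!
The real cyclic class of `GL_n` with eigenvalues `b, b⁻¹, 1, …, 1` and centralisers of full determinant.
-/

set_option autoImplicit false

namespace Cfsg.Agent.Lib.ThompsonSquare

open Matrix Cfsg.Agent.Lib.Sourour

variable {F : Type*} [Field F] {n : ℕ}

/-- The eigenvalues. -/
def cyB (n : ℕ) (b : Fˣ) : Fin (n + 2) → F := fun i =>
  if i.val = 0 then (b : F) else if i.val = 1 then ((b⁻¹ : Fˣ) : F) else 1

/-- The matrix. -/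
def cyN (n : ℕ) (b : Fˣ) : Matrix (Fin (n + 2)) (Fin (n + 2)) F := nf (cyB n b) 2

/-- Membership in the class. -/
def CY (b : Fˣ) (M : Matrix (Fin (n + 2)) (Fin (n + 2)) F) : Prop := Sim M (cyN n b)

theorem cyB_ne (b : Fˣ) (i : Fin (n + 2)) : cyB n b i ≠ 0 := by
  unfold cyB; split_ifs <;> simp

theorem cy_runs {b : Fˣ} (hb1 : b ≠ 1) (hb2 : b * b ≠ 1) : Runs (cyB n b) 2 1 := by
  have h1 : (b : F) ≠ 1 := fun h => hb1 (Units.ext h)
  have h2 : ((b⁻¹ : Fˣ) : F) ≠ 1 := fun h => hb1 (inv_eq_one.1 (Units.ext h))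
  have h3 : (b : F) ≠ ((b⁻¹ : Fˣ) : F) := fun h => hb2 (mul_eq_one_iff_eq_inv.2 (Units.ext h))
  refine ⟨fun i hi j hj => ?_, fun i hi => by simp [cyB, show i.val ≠ 0 by omega, show i.val ≠ 1 by omega]⟩
  have hj' := Fin.val_ne_of_ne hj
  rcases (show i.val = 0 ∨ i.val = 1 by omega) with h | h <;> simp only [cyB, h, one_ne_zero, if_false, if_true] <;>
    split_ifs with a a'
  · omega
  · exact h3.symm
  · exact h1.symm
  · exact h3
  · omega
  · exact h2.symm

theorem prod_cyB (b : Fˣ) : ∏ i : Fin (n + 2), cyB n b i = 1 := by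
  rw [Fin.prod_univ_succ, Fin.prod_univ_succ]
  simp [cyB]

theorem det_cyN (b : Fˣ) : (cyN n b).det = 1 := by
  rw [cyN, Matrix.det_of_isLowerTriangular]
  · rw [← prod_cyB (n := n) b]
    exact Finset.prod_congr rfl fun i _ => by simp [nf]
  · intro i j h
    have h' : i.val < j.val := h
    have hne : i ≠ j := fun e => by rw [e] at h'; omega
    simp [nf, hne, show ¬ j.val + 1 = i.val by omega]

theorem cyN_edge (b : Fˣ) (k : Fin (n + 2)) (hk : k ≠ 0) : cyN n b 0 k = 0 ∧ cyN n b k 0 = 0 := by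
  refine ⟨?_, ?_⟩ <;> simp [cyN, nf, hk, hk.symm]

theorem sim_trans {m : ℕ} {M N N' : Matrix (Fin m) (Fin m) F} (h : Sim M N) (h' : Sim N N') : Sim M N' := by
  obtain ⟨K, hK, e⟩ := h
  obtain ⟨L, hL, e'⟩ := h'
  exact ⟨K * L, by rw [det_mul]; exact hK.mul hL, by rw [← mul_assoc, e, mul_assoc, e', ← mul_assoc]⟩

theorem sim_refl {m : ℕ} (M : Matrix (Fin m) (Fin m) F) : Sim M M :=
  ⟨1, by simp, by simp⟩

theorem cyN_inv_sim (b : Fˣ) : Sim (nf (fun i => (cyB n b i)⁻¹) 2) (cyN n b) := by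
  classical
  let σ : Equiv.Perm (Fin (n + 2)) := Equiv.swap 0 1
  have hσ : ∀ i, (cyB n b i)⁻¹ = cyB n b (σ i) := by
    intro i
    by_cases h0 : i = 0
    · subst h0; simp [σ, cyB]
    by_cases h1 : i = 1
    · subst h1; simp [σ, cyB]
    · rw [show σ i = i from Equiv.swap_apply_of_ne_of_ne h0 h1]
      have a : i.val ≠ 0 := fun e => h0 (Fin.ext e)
      have a' : i.val ≠ 1 := fun e => h1 (Fin.ext (by simpa using e))
      simp [cyB, a, a']
  refine ⟨σ.permMatrix F, by rw [det_permutation]; rcases Int.units_eq_one_or (Equiv.Perm.sign σ) with h | h <;> simp [h], ?_⟩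
  rw [Equiv.Perm.permMatrix, PEquiv.toMatrix_toPEquiv_mul, PEquiv.mul_toMatrix_toPEquiv]
  ext i j
  simp only [submatrix_apply, id_eq, cyN, nf, of_apply, hσ]
  have key : ∀ k : Fin (n + 2), 2 ≤ k.val → σ k = k := fun k hk => Equiv.swap_apply_of_ne_of_ne
    (fun e => by rw [e] at hk; simp at hk) (fun e => by rw [e] at hk; simp at hk)
  by_cases hij : σ i = j
  · subst hij
    simp [σ]
  · have hij' : i ≠ σ.symm j := fun e => hij (by rw [e]; simp)
    rw [if_neg hij', if_neg hij]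
    have low : ∀ k : Fin (n + 2), k.val < 2 → (σ k).val < 2 := fun k hk => by
      by_contra h3
      have e : σ (σ k) = σ k := key (σ k) (by omega)
      rw [Equiv.apply_eq_iff_eq] at e
      rw [e] at h3
      omega
    have hsj : σ (σ.symm j) = j := σ.apply_symm_apply j
    by_cases hi : 2 ≤ i.val <;> by_cases hj : 2 ≤ (σ.symm j).val
    · have := key _ hj
      rw [hsj] at this
      rw [key i hi, ← this]
    · have := low (σ.symm j) (by omega)
      rw [hsj] at this
      rw [key i hi, if_neg (by omega), if_neg (by omega)]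
    · have := key _ hj
      rw [hsj] at this
      have := low i (by omega)
      rw [if_neg (by omega), if_neg (by omega)]
    · have := low (σ.symm j) (by omega)
      rw [hsj] at this
      have := low i (by omega)
      rw [if_neg (by omega), if_neg (by omega)]

theorem cy_inv {b : Fˣ} (hb1 : b ≠ 1) (hb2 : b * b ≠ 1) {M M' : Matrix (Fin (n + 2)) (Fin (n + 2)) F}
    (h : CY b M) (e : M' * M = 1) : CY b M' := by
  classical
  have hz : ∀ i j : Fin (n + 2), j < i → (cyN n b)ᵀ i j = 0 := by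
    intro i j hij
    have h' : j.val < i.val := hij
    have hne : j ≠ i := hij.ne
    simp [cyN, nf, hne, show ¬ i.val + 1 = j.val by omega]
  obtain ⟨Y, hUY, -, hYz, hYd, hYn⟩ := up_inv (γ := cyB n b) (cyB_ne b) hz (fun i => by simp [cyN, nf])
  have hY : Sim Yᵀ (cyN n b) := by
    refine sim_trans (lo_similar (cy_runs hb1 hb2).inv (fun i j hij => hYz j i hij) (fun i => hYd i)
      fun i j hij hm => ?_) (cyN_inv_sim b)
    show Y j i ≠ 0
    rw [hYn j i hij, neg_ne_zero]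
    have hne : i ≠ j := fun h => by rw [h] at hij; omega
    simp [cyN, nf, hne, hij, hm, cyB_ne]
  have hNY : Yᵀ * cyN n b = 1 := by rw [← Matrix.transpose_inj, transpose_mul, transpose_transpose, hUY, transpose_one]
  obtain ⟨K, hK, hMK⟩ := h
  refine sim_trans ⟨K, hK, ?_⟩ hY
  calc M' * K = M' * (K * cyN n b) * Yᵀ := by
        rw [mul_assoc, mul_assoc K, mul_eq_one_comm.1 hNY, mul_one]
    _ = _ := by rw [← hMK, ← mul_assoc, e, one_mul]

theorem cy_conj {b : Fˣ} {M M' : Matrix (Fin (n + 2)) (Fin (n + 2)) F} (h : CY b M) (h' : CY b M') :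
    ∃ S : SpecialLinearGroup (Fin (n + 2)) F, M' * S.1 = S.1 * M := by
  classical
  obtain ⟨K, hK, e⟩ := h
  obtain ⟨K', hK', e'⟩ := h'
  set d : F := K.det * K'.det⁻¹ with hd
  set Dg : Matrix (Fin (n + 2)) (Fin (n + 2)) F := diagonal (Function.update 1 0 d) with hDg
  have hDN : Dg * cyN n b = cyN n b * Dg := by
    ext i j
    rw [hDg, diagonal_mul, mul_diagonal]
    by_cases hi : i = 0 <;> by_cases hj : j = 0
    · subst hi; subst hj; ring
    · subst hi; rw [(cyN_edge b j hj).1]; simp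
    · subst hj; rw [(cyN_edge b i hi).2]; simp
    · simp [hi, hj]
  have hK0 : K.det ≠ 0 := hK.ne_zero
  have hK0' : K'.det ≠ 0 := hK'.ne_zero
  refine ⟨⟨K' * Dg * K⁻¹, ?_⟩, ?_⟩
  · rw [det_mul, det_mul, hDg, det_diagonal, Finset.prod_update_of_mem (Finset.mem_univ 0),
      det_nonsing_inv, Ring.inverse_eq_inv', hd]
    simp
    field_simp
  · show M' * (K' * Dg * K⁻¹) = K' * Dg * K⁻¹ * M
    have h1 : K⁻¹ * M = cyN n b * K⁻¹ := by
      calc K⁻¹ * M = K⁻¹ * M * (K * K⁻¹) := by rw [mul_nonsing_inv K hK, mul_one]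
        _ = K⁻¹ * (M * K) * K⁻¹ := by simp only [mul_assoc]
        _ = _ := by rw [e, ← mul_assoc, nonsing_inv_mul K hK, one_mul]
    rw [mul_assoc (K' * Dg), h1, ← mul_assoc, ← mul_assoc, ← mul_assoc, e']
    simp only [mul_assoc]
    rw [← mul_assoc Dg (cyN n b), hDN]
    simp only [mul_assoc]

theorem split_cy (h4 : Four F) {b : Fˣ} (hb1 : b ≠ 1) (hb2 : b * b ≠ 1)
    {A : Matrix (Fin (n + 2)) (Fin (n + 2)) F} (hdet : A.det = 1) (hA : ∀ c : F, A ≠ c • 1) :
    ∃ X Y : SpecialLinearGroup (Fin (n + 2)) F, CY b X.1 ∧ CY b Y.1 ∧ A = X.1 * Y.1 := by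
  obtain ⟨P, P', X, Y, Y', hPP, hPAP, hYY, hXd, hX, hY'⟩ :=
    split_of_not_scalar h4 hdet hA (cyB_ne (n := n) b) (cy_runs hb1 hb2) (Or.inl le_rfl)
  have hPP' : P * P' = 1 := mul_eq_one_comm.1 hPP
  have hYr : CY b Y := cy_inv hb1 hb2 hY' hYY
  rw [prod_cyB] at hXd
  have hYd : Y.det = 1 := by
    have := congrArg Matrix.det hPAP
    rw [det_mul, det_mul, det_mul, hdet, mul_one, hXd, one_mul, ← det_mul, hPP, det_one] at this
    exact this.symm
  have hd : ∀ M : Matrix (Fin (n + 2)) (Fin (n + 2)) F, (P * M * P').det = M.det := fun M => by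
    rw [det_mul, det_mul, mul_comm P.det, mul_assoc, ← det_mul, hPP', det_one, mul_one]
  refine ⟨⟨P * X * P', by rw [hd, hXd]⟩, ⟨P * Y * P', by rw [hd, hYd]⟩,
    sim_of_conj hPP hX rfl, sim_of_conj hPP hYr rfl, ?_⟩
  show A = P * X * P' * (P * Y * P')
  calc A = P * (P' * A * P) * P' := by
        simp only [← mul_assoc]; rw [hPP', one_mul, mul_assoc, hPP', mul_one]
    _ = _ := by rw [hPAP]; simp only [mul_assoc]; rw [← mul_assoc P' P, hPP, one_mul]

end Cfsg.Agent.Lib.ThompsonSquare
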