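import Cfsg.Agent.Lib.ThompsonSquare.Master
import Cfsg.Agent.Lib.ChevStructure.CommAll
import Cfsg.Agent.Lib.G2Gauss.Product

/-!
The data for F₄, E₆, E₇ and E₈.
-/

set_option autoImplicit false
set_option maxRecDepth 100000
set_option maxHeartbeats 2000000

namespace Cfsg.Agent.Lib.ThompsonSquare

open Cfsg.Lie Cfsg.Agent.Lib.ChevStructure

/-- The node with a given number. -/
def nd {D : ChevalleyDatum} (C : Core D) (n : ℕ) : Fin D.rank := ⟨n % D.rank, Nat.mod_lt n C.rank_pos⟩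

namespace F4

/-- The tree of F4. -/
noncomputable def tree : Tree Cert.F4.core where
  root := nd Cert.F4.core 1
  par i := nd Cert.F4.core ([1, 1, 1, 2].getD i.val 0)
  dep i := [1, 0, 1, 2].getD i.val 0
  up := by decide +kernel
  bound := by decide +kernel

/-- The chain in F4. -/
noncomputable def chain : Chain' Cert.F4.core where
  n := 1
  pos := by decide
  f i := nd Cert.F4.core ([0, 1].getD i.val 0)
  pairs := by decide +kernel
  far := by decide +kernel

/-- The plan for F4. -/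
noncomputable def plan : Plan Cert.F4.core where
  T := tree
  K := chain
  x i := ([3, 6, 9, 5] : List ℤ).getD i.val 0
  y i := ([2, 3, 4, 2] : List ℤ).getD i.val 0
  L := ([0, 1, 0, 2, 1, 0, 2, 1, 2, 3, 2, 1, 0, 2, 1, 2, 3, 2, 1, 0, 2, 1, 2, 3] : List ℕ).map (nd Cert.F4.core)
  σ i := nd Cert.F4.core ([0, 1, 2, 3].getD i.val 0)
  π i := ⟨[0, 1].getD i.val 0 % (1 + 1), Nat.mod_lt _ (Nat.succ_pos _)⟩
  x_in := by decide +kernel
  x_out := by decide +kernel
  y_eq := by decide +kernel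
  L_eq := by decide +kernel
  σ_σ := by decide +kernel
  x_sym := by decide +kernel
  π_eq := by decide +kernel
  π_inj := by decide +kernel

end F4

namespace E6

/-- The tree of E6. -/
noncomputable def tree : Tree Cert.E6.core where
  root := nd Cert.E6.core 3
  par i := nd Cert.E6.core ([2, 3, 3, 3, 3, 4].getD i.val 0)
  dep i := [2, 1, 1, 0, 1, 2].getD i.val 0
  up := by decide +kernel
  bound := by decide +kernel

/-- The chain in E6. -/
noncomputable def chain : Chain' Cert.E6.core where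
  n := 1
  pos := by decide
  f i := nd Cert.E6.core ([1, 3].getD i.val 0)
  pairs := by decide +kernel
  far := by decide +kernel

/-- The plan for E6. -/
noncomputable def plan : Plan Cert.E6.core where
  T := tree
  K := chain
  x i := ([5, 6, 9, 12, 9, 5] : List ℤ).getD i.val 0
  y i := ([1, 2, 2, 3, 2, 1] : List ℤ).getD i.val 0
  L := ([0, 1, 2, 0, 3, 1, 2, 0, 3, 2, 4, 3, 1, 2, 0, 3, 2, 4, 3, 1, 5, 4, 3, 1, 2, 0, 3, 2, 4, 3, 1, 5, 4, 3, 2, 0] : List ℕ).map (nd Cert.E6.core)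
  σ i := nd Cert.E6.core ([5, 1, 4, 3, 2, 0].getD i.val 0)
  π i := ⟨[0, 1].getD i.val 0 % (1 + 1), Nat.mod_lt _ (Nat.succ_pos _)⟩
  x_in := by decide +kernel
  x_out := by decide +kernel
  y_eq := by decide +kernel
  L_eq := by decide +kernel
  σ_σ := by decide +kernel
  x_sym := by decide +kernel
  π_eq := by decide +kernel
  π_inj := by decide +kernel

end E6

namespace E7

/-- The tree of E7. -/
noncomputable def tree : Tree Cert.E7.core where
  root := nd Cert.E7.core 3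
  par i := nd Cert.E7.core ([2, 3, 3, 3, 3, 4, 5].getD i.val 0)
  dep i := [2, 1, 1, 0, 1, 2, 3].getD i.val 0
  up := by decide +kernel
  bound := by decide +kernel

/-- The chain in E7. -/
noncomputable def chain : Chain' Cert.E7.core where
  n := 5
  pos := by decide
  f i := nd Cert.E7.core ([0, 2, 3, 4, 5, 6].getD i.val 0)
  pairs := by decide +kernel
  far := by decide +kernel

/-- The plan for E7. -/
noncomputable def plan : Plan Cert.E7.core where
  T := tree
  K := chain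
  x i := ([4, 7, 8, 12, 9, 6, 3] : List ℤ).getD i.val 0
  y i := ([2, 2, 3, 4, 3, 2, 1] : List ℤ).getD i.val 0
  L := ([0, 1, 2, 0, 3, 1, 2, 0, 3, 2, 4, 3, 1, 2, 0, 3, 2, 4, 3, 1, 5, 4, 3, 1, 2, 0, 3, 2, 4, 3, 1, 5, 4, 3, 2, 0, 6, 5, 4, 3, 1, 2, 0, 3, 2, 4, 3, 1, 5, 4, 3, 2, 0, 6, 5, 4, 3, 1, 2, 3, 4, 5, 6] : List ℕ).map (nd Cert.E7.core)
  σ i := nd Cert.E7.core ([0, 1, 2, 3, 4, 5, 6].getD i.val 0)
  π i := ⟨[0, 1, 2, 3, 4, 5].getD i.val 0 % (5 + 1), Nat.mod_lt _ (Nat.succ_pos _)⟩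
  x_in := by decide +kernel
  x_out := by decide +kernel
  y_eq := by decide +kernel
  L_eq := by decide +kernel
  σ_σ := by decide +kernel
  x_sym := by decide +kernel
  π_eq := by decide +kernel
  π_inj := by decide +kernel

end E7

namespace E8

/-- The tree of E8. -/
noncomputable def tree : Tree Cert.E8.core where
  root := nd Cert.E8.core 3
  par i := nd Cert.E8.core ([2, 3, 3, 3, 3, 4, 5, 6].getD i.val 0)
  dep i := [2, 1, 1, 0, 1, 2, 3, 4].getD i.val 0
  up := by decide +kernel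
  bound := by decide +kernel

/-- The chain in E8. -/
noncomputable def chain : Chain' Cert.E8.core where
  n := 6
  pos := by decide
  f i := nd Cert.E8.core ([0, 2, 3, 4, 5, 6, 7].getD i.val 0)
  pairs := by decide +kernel
  far := by decide +kernel

/-- The plan for E8. -/
noncomputable def plan : Plan Cert.E8.core where
  T := tree
  K := chain
  x i := ([5, 8, 10, 15, 12, 9, 6, 3] : List ℤ).getD i.val 0
  y i := ([4, 5, 7, 10, 8, 6, 4, 2] : List ℤ).getD i.val 0
  L := ([0, 1, 2, 0, 3, 1, 2, 0, 3, 2, 4, 3, 1, 2, 0, 3, 2, 4, 3, 1, 5, 4, 3, 1, 2, 0, 3, 2, 4, 3, 1, 5, 4, 3, 2, 0, 6, 5, 4, 3, 1, 2, 0, 3, 2, 4, 3, 1, 5, 4, 3, 2, 0, 6, 5, 4, 3, 1, 2, 3, 4, 5, 6, 7, 6, 5, 4, 3, 1, 2, 0, 3, 2, 4, 3, 1, 5, 4, 3, 2, 0, 6, 5, 4, 3, 1, 2, 3, 4, 5, 6, 7, 6, 5, 4, 3, 1, 2, 0, 3, 2, 4, 3, 1, 5, 4, 3, 2, 0, 6, 5, 4, 3, 1, 2, 3, 4, 5, 6, 7] : List ℕ).map (nd Cert.E8.core)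
  σ i := nd Cert.E8.core ([0, 1, 2, 3, 4, 5, 6, 7].getD i.val 0)
  π i := ⟨[0, 1, 2, 3, 4, 5, 6].getD i.val 0 % (6 + 1), Nat.mod_lt _ (Nat.succ_pos _)⟩
  x_in := by decide +kernel
  x_out := by decide +kernel
  y_eq := by decide +kernel
  L_eq := by decide +kernel
  σ_σ := by decide +kernel
  x_sym := by decide +kernel
  π_eq := by decide +kernel
  π_inj := by decide +kernel

end E8

end Cfsg.Agent.Lib.ThompsonSquare
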