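import Cfsg.Agent.Lib.ThompsonSquare.Opp
import Cfsg.Agent.Lib.ThompsonSquare.AdjWord
import Cfsg.Agent.Lib.G2Gauss.Product

/-!
The class of `z u`, with `z` regular outside a chain and `u` regular unipotent on the chain, squares to the group.
-/

set_option autoImplicit false
set_option linter.unusedSectionVars false

namespace Cfsg.Agent.Lib.ThompsonSquare

open Cfsg.Lie Cfsg.Agent.Lib.ChevStructure
open Cfsg.Agent.Lib.CTRecog (slPhi slPhi_U slPhi_H)
open Cfsg.Agent.Lib.Schur.SteinbergSLn (trv)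
open scoped MatrixGroups Matrix

variable {D : ChevalleyDatum} {C : Core D} {F : Type*} [Field F]

/-- The standard regular unipotent element of the chain. -/
def u0 (n : ℕ) (F : Type*) [Field F] : Matrix.SpecialLinearGroup (Fin (n + 2)) F :=
  upWord ((List.finRange (n + 1)).map fun i => (i, (1 : F)))

theorem ru_u0 (n : ℕ) : RU (u0 n F).1 :=
  ru_upWord _ (by rw [List.map_map]; exact (List.nodup_finRange _).map (fun _ _ h => h))
    fun k => ⟨1, one_ne_zero, List.mem_map.2 ⟨k, List.mem_finRange k, rfl⟩⟩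

theorem pow_card_eq_one [Fintype F] {n : ℕ} {S : Matrix.SpecialLinearGroup (Fin (n + 2)) F}
    (hz : ∀ i j : Fin (n + 2), j < i → S.1 i j = 0) (hd : ∀ i, S.1 i i = 1) :
    ∃ M : ℕ, S ^ M = 1 ∧ ∀ z : Fˣ, z ^ M = z := by
  classical
  obtain ⟨p, hp⟩ := CharP.exists F
  haveI := hp
  obtain ⟨k, hprime, hcard⟩ := FiniteField.card F p
  haveI := Fact.mk hprime
  haveI : CharP (Matrix (Fin (n + 2)) (Fin (n + 2)) F) p := inferInstance
  refine ⟨Fintype.card F ^ (n + 2), ?_, fun z => ?_⟩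
  swap
  · refine Units.ext ?_
    rw [Units.val_pow_eq_pow_val]
    induction n + 2 with
    | zero => simp
    | succ m ih => rw [pow_succ, pow_mul, ih, FiniteField.pow_card]
  have hN : (S.1 - 1) ^ (n + 2) = 0 := by
    have key : ∀ m : ℕ, ∀ i j : Fin (n + 2), j.val < i.val + m → ((S.1 - 1) ^ m) i j = 0 := by
      intro m
      induction m with
      | zero => intro i j h; simp [Matrix.one_apply, show i ≠ j from fun e => by subst e; omega]
      | succ m ih =>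
        intro i j h
        rw [pow_succ, Matrix.mul_apply]
        refine Finset.sum_eq_zero fun l _ => ?_
        by_cases h1 : l.val < i.val + m
        · rw [ih i l h1, zero_mul]
        · rcases lt_trichotomy j l with h2 | h2 | h2
          · rw [Matrix.sub_apply, hz l j h2, Matrix.one_apply_ne h2.ne', sub_zero, mul_zero]
          · subst h2; rw [Matrix.sub_apply, hd, Matrix.one_apply_eq, sub_self, mul_zero]
          · have : l.val < j.val := h2
            omega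
    ext i j
    exact key _ i j (by have := j.isLt; omega)
  refine Subtype.ext ?_
  show S.1 ^ _ = (1 : Matrix (Fin (n + 2)) (Fin (n + 2)) F)
  rw [hcard, ← pow_mul]
  have hle : n + 2 ≤ p ^ ((k : ℕ) * (n + 2)) :=
    (Nat.lt_pow_self hprime.one_lt).le.trans (Nat.pow_le_pow_right hprime.pos (Nat.le_mul_of_pos_left _ k.pos))
  have e := sub_pow_char_pow_of_commute (p := p) (n := (k : ℕ) * (n + 2)) (Commute.one_right S.1)
  rw [pow_eq_zero_of_le hle hN, one_pow] at e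
  exact (sub_eq_zero.1 e.symm)

variable (P : Plan C) (H : CommOK C) [Fintype F]

theorem rho_mem_group {ρ : Matrix.SpecialLinearGroup (Fin (P.K.n + 2)) F →* GL D.Idx F}
    (hρ : IsChainHom C P.K ρ) (S : Matrix.SpecialLinearGroup (Fin (P.K.n + 2)) F) : ρ S ∈ D.group F :=
  C.US_le_group _ (range_le_US hρ ⟨S, rfl⟩)

theorem rho_sh {ρ : Matrix.SpecialLinearGroup (Fin (P.K.n + 2)) F →* GL D.Idx F}
    (hρ : IsChainHom C P.K ρ) (i : Fin (P.K.n + 1)) (u : Fˣ) :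
    ρ (sh i u) = C.HT F (Pi.mulSingle (P.K.f i) u) := by
  rw [C.HT_single, ← slPhi_H C (C.p (P.K.f i)) u]
  simp only [sh, slH, slN, map_mul, (hρ i _).1, (hρ i _).2, (slPhi_U C _ _).1, (slPhi_U C _ _).2]
  simp [mul_assoc]

include H in
/-- The Levi middle is a product of two conjugates. -/
theorem middle {ρ : Matrix.SpecialLinearGroup (Fin (P.K.n + 2)) F →* GL D.Idx F} (hρ : IsChainHom C P.K ρ)
    (h4 : Cfsg.Agent.Lib.Sourour.Four F) {t : Fˣ} (ht : t * t ≠ 1) {v q : GL D.Idx F}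
    (hv : v ∈ C.US F (C.Neg ∩ C.PJ P.K.J)) (hq : q ∈ C.US F (C.Pos ∩ C.PJ P.K.J)) :
    ∃ X Y : Matrix.SpecialLinearGroup (Fin (P.K.n + 2)) F, RU X.1 ∧ RU Y.1 ∧
      v * C.HT F (Pi.mulSingle (P.K.f 0) t) * q = ρ X * ρ Y := by
  obtain ⟨Sv, rfl⟩ := US_le_range hρ (C.US_mono F Set.inter_subset_right hv)
  obtain ⟨Sq, rfl⟩ := US_le_range hρ (C.US_mono F Set.inter_subset_right hq)
  rw [← rho_sh P hρ, ← map_mul, ← map_mul]
  obtain ⟨X, Y, hX, hY, e⟩ := split_ru h4 P.K.pos (Sv * sh 0 t * Sq) (by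
    intro c hc
    have hsc : ∀ S, Commute (Sv * sh 0 t * Sq) S := fun S => Subtype.ext (by
      show (Sv * sh 0 t * Sq).1 * S.1 = S.1 * (Sv * sh 0 t * Sq).1
      rw [hc, Matrix.smul_mul, Matrix.mul_smul, one_mul, mul_one])
    have hT : ρ (Sv * sh 0 t * Sq) ∈ D.diagonalSubgroup F :=
      scalar_mem (M := (D.diagonalSubgroup F).comap ρ)
        (fun i u => by rw [Subgroup.mem_comap, rho_sh P hρ]; exact C.HT_mem_diagonal _) hc
    have hd0 : ρ (sh 0 t) ∈ D.diagonalSubgroup F := by rw [rho_sh P hρ]; exact C.HT_mem_diagonal _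
    have hb : ∀ x ∈ D.diagonalSubgroup F, x ∈ D.borelSubgroup F := fun x hx => C.diagonal_le_borel hx
    have hqB : ρ Sq ∈ D.borelSubgroup F := C.posUS_le_borel (C.US_mono F Set.inter_subset_left hq)
    have hv1 : ρ Sv = 1 := by
      have h : ρ Sv ∈ D.borelSubgroup F ⊓ C.US F C.Neg := by
        refine Subgroup.mem_inf.2 ⟨?_, C.US_mono F Set.inter_subset_left hv⟩
        have e : ρ Sv = ρ (Sv * sh 0 t * Sq) * (ρ Sq)⁻¹ * (ρ (sh 0 t))⁻¹ := by simp [map_mul]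
        rw [e]
        exact mul_mem (mul_mem (hb _ hT) (inv_mem hqB)) (inv_mem (hb _ hd0))
      rwa [C.borel_inf_negUS, Subgroup.mem_bot] at h
    have hq1 : ρ Sq = 1 := by
      have h : ρ Sq ∈ C.US F C.Pos ⊓ D.diagonalSubgroup F := by
        refine Subgroup.mem_inf.2 ⟨C.US_mono F Set.inter_subset_left hq, ?_⟩
        have e : ρ Sq = (ρ (sh 0 t))⁻¹ * ρ (Sv * sh 0 t * Sq) := by simp [map_mul, hv1, mul_assoc]
        rw [e]
        exact mul_mem (inv_mem hd0) hT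
      rwa [C.US_inf_diagonal, Subgroup.mem_bot] at h
    -- the middle would be central in the Levi subgroup
    have h := congrArg ρ (hsc (trv (P.K.n + 2) F (0 : Fin (P.K.n + 1)).castSucc (0 : Fin (P.K.n + 1)).succ 1)).eq
    simp only [map_mul, hv1, hq1, one_mul, mul_one, (hρ 0 1).1, rho_sh P hρ] at h
    have h2 := C.HT_X_conj F (Pi.mulSingle (P.K.f 0) t) (C.p (P.K.f 0)) 1
    rw [h, mul_inv_cancel_right, mul_one, chA_single, C.A_p] at h2
    refine ht (Units.ext ?_)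
    have h3 := Cfsg.Agent.Lib.CTRecog.X_inj C h2
    rw [zpow_ofNat, pow_two] at h3
    exact h3.symm)
  exact ⟨X, Y, hX, hY, by rw [e, map_mul]⟩

variable {g : Fˣ} (hg : ∀ k : ℤ, 1 ≤ k → k ≤ 7 → g ^ k ≠ 1)

theorem tor_commute_rho {ρ : Matrix.SpecialLinearGroup (Fin (P.K.n + 2)) F →* GL D.Idx F}
    (hρ : IsChainHom C P.K ρ) (g : Fˣ) (S : Matrix.SpecialLinearGroup (Fin (P.K.n + 2)) F) :
    Commute (tor C g P.x) (ρ S) := by
  have key : ρ.range ≤ Subgroup.centralizer {tor C g P.x} :=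
    range_le_of_roots hρ fun i t => ⟨Subgroup.mem_centralizer_singleton_iff.2
      (tor_commute_X P g t (by rw [chA_pow, P.x_in, zpow_zero])).eq.symm,
      Subgroup.mem_centralizer_singleton_iff.2
        (tor_commute_X P g t (by rw [chA_pow, ev_rev, P.x_in, neg_zero, zpow_zero])).eq.symm⟩
  exact (Subgroup.mem_centralizer_singleton_iff.1 (key ⟨S, rfl⟩)).symm

/-- The element of the class. -/
def elt (ρ : Matrix.SpecialLinearGroup (Fin (P.K.n + 2)) F →* GL D.Idx F) (g : Fˣ) : GL D.Idx F :=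
  tor C g P.x * ρ (u0 P.K.n F)

/-- Elements `z ρ(M)` with `M` regular unipotent are conjugate to the chosen one, inside the Levi subgroup. -/
theorem conj_elt {ρ : Matrix.SpecialLinearGroup (Fin (P.K.n + 2)) F →* GL D.Idx F} (hρ : IsChainHom C P.K ρ)
    (g : Fˣ) {M : Matrix.SpecialLinearGroup (Fin (P.K.n + 2)) F} (hM : RU M.1) :
    ∃ k ∈ (C.US F (C.PJ P.K.J) ⊔ D.diagonalSubgroup F),
      tor C g P.x * ρ M = k * elt P ρ g * k⁻¹ := by
  obtain ⟨S, d, e⟩ := ru_conj (ru_u0 P.K.n (F := F)) hM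
  set τ := C.HT F (fun j => d ^ P.y j) with hτ
  have hτρ : ∀ R, τ * ρ R * τ⁻¹ = ρ (diagConj (first d) R) := fun R => HT_rho hρ _ _ (fun i => by
    rw [chA_pow, P.y_eq]
    rcases Fin.eq_zero_or_eq_succ i with rfl | ⟨j, rfl⟩
    · simp [first]
    · simp [first, Fin.succ_ne_zero, ← Fin.succ_castSucc]) R
  refine ⟨ρ S * τ, mul_mem (Subgroup.mem_sup_left (range_le_US hρ ⟨S, rfl⟩))
    (Subgroup.mem_sup_right (C.HT_mem_diagonal _)), ?_⟩
  have hzτ : Commute (tor C g P.x) τ := by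
    show C.HT F _ * C.HT F _ = C.HT F _ * C.HT F _
    rw [C.HT_mul, C.HT_mul, mul_comm]
  have hz := tor_commute_rho P hρ g
  rw [e, map_mul, map_mul, map_inv, ← hτρ, elt]
  calc tor C g P.x * (ρ S * (τ * ρ (u0 P.K.n F) * τ⁻¹) * (ρ S)⁻¹)
      = (tor C g P.x * ρ S) * τ * ρ (u0 P.K.n F) * τ⁻¹ * (ρ S)⁻¹ := by group
    _ = ρ S * (tor C g P.x * τ) * ρ (u0 P.K.n F) * τ⁻¹ * (ρ S)⁻¹ := by rw [(hz S).eq]; group
    _ = _ := by rw [hzτ.eq]; group

include H hg in
theorem free_elt {ρ : Matrix.SpecialLinearGroup (Fin (P.K.n + 2)) F →* GL D.Idx F} (hρ : IsChainHom C P.K ρ)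
    {p : GL D.Idx F} (hp : p ∈ C.US F (C.UJ P.K.J) ∨ p ∈ C.US F (op C (C.UJ P.K.J)))
    (hc : Commute (elt P ρ g) p) : p = 1 := by
  classical
  obtain ⟨hz, hd, -⟩ := upWord_entries ((List.finRange (P.K.n + 1)).map fun i => (i, (1 : F)))
    (by rw [List.map_map]; exact (List.nodup_finRange _).map (fun _ _ h => h))
  obtain ⟨M, hM, hM'⟩ := pow_card_eq_one (S := u0 P.K.n F) hz hd
  have e : elt P ρ g ^ M = tor C g P.x := by
    rw [elt, (tor_commute_rho P hρ g _).mul_pow, ← map_pow, hM, map_one, mul_one, tor]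
    show C.HThom (R := F) (fun j => g ^ P.x j) ^ M = C.HThom (R := F) (fun j => g ^ P.x j)
    rw [← map_pow]
    congr 1
    funext j
    exact hM' _
  have h : Commute (tor C g P.x) p := e ▸ hc.pow_left M
  rcases hp with hp | hp
  exacts [free_pos P H hg hp h, free_neg P H hg hp h]

include H in
theorem real_elt {ρ : Matrix.SpecialLinearGroup (Fin (P.K.n + 2)) F →* GL D.Idx F} (hρ : IsChainHom C P.K ρ)
    (g : Fˣ) : ∃ k ∈ D.group F, k * elt P ρ g * k⁻¹ = (elt P ρ g)⁻¹ := by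
  classical
  set n := C.wprod F P.L with hn
  have hnG : n ∈ D.group F := C.monomial_le_group (C.wprod_mem_monomial _)
  have hex : ∀ i : Fin (P.K.n + 1), ∃ e : F, e ≠ 0 ∧
      n * ρ (trv (P.K.n + 2) F i.castSucc i.succ 1) * n⁻¹ =
        ρ (trv (P.K.n + 2) F (P.π i).succ (P.π i).castSucc e) := by
    intro i
    obtain ⟨e, he⟩ := C.acts_wprod F P.L (C.p (P.K.f i))
    refine ⟨e, e.ne_zero, ?_⟩
    rw [(hρ i 1).1, (hρ _ _).2, ← P.π_eq, ← P.L_eq, hn, he, mul_one]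
  choose e he0 he using hex
  have himg : ∀ l : List (Fin (P.K.n + 1)), n * ρ (upWord (l.map fun i => (i, (1 : F)))) * n⁻¹ =
      ρ (lowWord (l.map fun i => (P.π i, e i))) := by
    intro l
    induction l with
    | nil => simp [upWord, lowWord]
    | cons i l ih =>
      simp only [upWord, lowWord, List.map_cons, List.prod_cons, map_mul] at ih ⊢
      rw [← ih, ← he i]
      group
  have hru : RU (lowWord ((List.finRange (P.K.n + 1)).map fun i => (P.π i, e i))).1 :=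
    ru_lowWord _ (by rw [List.map_map]; exact (List.nodup_finRange _).map P.π_inj) fun k => by
      obtain ⟨i, rfl⟩ := Finite.injective_iff_surjective.1 P.π_inj k
      exact ⟨e i, he0 i, List.mem_map.2 ⟨i, List.mem_finRange i, rfl⟩⟩
  have hinv : RU (u0 P.K.n F)⁻¹.1 := ru_inv (ru_u0 _) (congrArg Subtype.val (inv_mul_cancel (u0 P.K.n F)))
  -- both are conjugate to the element built with the inverse central element
  have hz' : (tor C g P.x)⁻¹ = tor C g⁻¹ P.x := by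
    rw [tor, tor, C.HT_inv]; congr 1; funext j; exact (inv_zpow _ _).symm
  obtain ⟨k₁, hk₁, e₁⟩ := conj_elt P hρ g⁻¹ hru
  obtain ⟨k₂, hk₂, e₂⟩ := conj_elt P hρ g⁻¹ hinv
  have hle : C.US F (C.PJ P.K.J) ⊔ D.diagonalSubgroup F ≤ D.group F :=
    sup_le (C.US_le_group _) C.diagonal_le_group
  refine ⟨k₂ * k₁⁻¹ * n, mul_mem (mul_mem (hle hk₂) (inv_mem (hle hk₁))) hnG, ?_⟩
  have a1 : n * elt P ρ g * n⁻¹ = k₁ * elt P ρ g⁻¹ * k₁⁻¹ := by
    rw [← e₁, ← hz', ← himg, ← opp_tor P (F := F) g, ← hn, elt, u0]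
    group
  have a2 : (elt P ρ g)⁻¹ = k₂ * elt P ρ g⁻¹ * k₂⁻¹ := by
    rw [← e₂, ← hz', elt, map_inv, mul_inv_rev]
    exact ((tor_commute_rho P hρ g _).inv_inv).eq.symm
  calc k₂ * k₁⁻¹ * n * elt P ρ g * (k₂ * k₁⁻¹ * n)⁻¹
      = k₂ * (k₁⁻¹ * (n * elt P ρ g * n⁻¹) * k₁) * k₂⁻¹ := by group
    _ = _ := by rw [a1, a2]; group

include P H hg in
/-- The square of the class is the whole group. -/
theorem covers (h9 : 9 ≤ Fintype.card F) :
    ∃ c ∈ D.group F, ∀ x ∈ D.group F, ∃ a ∈ D.group F, ∃ b ∈ D.group F,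
      x = a * c * a⁻¹ * (b * c * b⁻¹) := by
  classical
  haveI : Finite (Matrix D.Idx D.Idx F) := inferInstanceAs (Finite (D.Idx → D.Idx → F))
  haveI : Finite (GL D.Idx F) :=
    Finite.of_injective (fun g : GL D.Idx F => g.1) (fun g h e => Units.ext e)
  obtain ⟨ρ, hρ⟩ := exists_chainHom (F := F) H P.K
  set c := elt P ρ g with hcdef
  have hcG : c ∈ D.group F := mul_mem (C.HT_mem_group _) (rho_mem_group P hρ _)
  refine ⟨c, hcG, fun x hx => ?_⟩
  by_cases hx1 : x = 1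
  · obtain ⟨k, hk, e⟩ := real_elt P H hρ g
    exact ⟨k, hk, 1, one_mem _, by rw [hx1, e]; simp [hcdef]⟩
  obtain ⟨t, ht, -⟩ := exists_unit_avoid (F := F) h9 (n := 2) (by decide) (by decide) 1 1
  have ht' : t * t ≠ 1 := by rwa [zpow_ofNat, pow_two] at ht
  -- the wanted torus part
  set cz : Fin D.rank → Fˣ := fun j => g ^ P.x j with hcz
  obtain ⟨k, hk, v, hv, q, hq, e⟩ :=
    reach_all H P.T h9 hx hx1 (cz * cz * Pi.mulSingle (P.K.f 0) t)
  obtain ⟨v', hv', vK, hvK, rfl⟩ := split_J_neg H P.K.J hv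
  obtain ⟨qK, hqK, q', hq', rfl⟩ := split_J H P.K.J hq
  obtain ⟨X, Y, hX, hY, em⟩ := middle P H hρ (Cfsg.Agent.Lib.Sourour.four_of_fintype (by omega)) ht' hvK hqK
  have hzv : Commute (tor C g P.x) vK := by
    obtain ⟨S, rfl⟩ := US_le_range hρ (C.US_mono F Set.inter_subset_right hvK)
    exact tor_commute_rho P hρ g S
  have hmid : vK * C.HT F (cz * cz * Pi.mulSingle (P.K.f 0) t) * qK =
      (tor C g P.x * ρ X) * (tor C g P.x * ρ Y) := by
    rw [← C.HT_mul, ← C.HT_mul, ← tor]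
    simp only [mul_assoc] at em ⊢
    rw [hzv.symm.left_comm, hzv.symm.left_comm, em]
    simp only [← mul_assoc]
    rw [mul_assoc (tor C g P.x) (tor C g P.x) (ρ X)]
    conv_lhs => rw [(tor_commute_rho P hρ g X).eq]
    rw [← mul_assoc]
  obtain ⟨k₁, hk₁, e₁⟩ := conj_elt P hρ g hX
  obtain ⟨k₂, hk₂, e₂⟩ := conj_elt P hρ g hY
  rw [← hcdef] at e₁ e₂
  have hN : C.US F (C.PJ P.K.J) ⊔ D.diagonalSubgroup F ≤
      Subgroup.normalizer (C.US F (C.UJ P.K.J) : Set (GL D.Idx F)) ⊓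
        Subgroup.normalizer (C.US F (op C (C.UJ P.K.J)) : Set (GL D.Idx F)) :=
    sup_le (radical_normalizer H _) (le_inf (C.diag_le_normalizer _) (C.diag_le_normalizer _))
  have hle : C.US F (C.PJ P.K.J) ⊔ D.diagonalSubgroup F ≤ D.group F :=
    sup_le (C.US_le_group _) C.diagonal_le_group
  have hcL : c ∈ C.US F (C.PJ P.K.J) ⊔ D.diagonalSubgroup F :=
    mul_mem (Subgroup.mem_sup_right (C.HT_mem_diagonal _)) (Subgroup.mem_sup_left (range_le_US hρ ⟨_, rfl⟩))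
  have conjL : ∀ k ∈ C.US F (C.PJ P.K.J) ⊔ D.diagonalSubgroup F,
      ∀ p, (p ∈ C.US F (C.UJ P.K.J) → k * p * k⁻¹ ∈ C.US F (C.UJ P.K.J)) ∧
        (p ∈ C.US F (op C (C.UJ P.K.J)) → k * p * k⁻¹ ∈ C.US F (op C (C.UJ P.K.J))) :=
    fun k hk p => ⟨(Subgroup.mem_normalizer_iff.1 (hN hk).1 p).1, (Subgroup.mem_normalizer_iff.1 (hN hk).2 p).1⟩
  -- absorb the two radicals
  obtain ⟨p₁, hp₁, a₁⟩ := Cfsg.Agent.Lib.G2Gauss.exists_conj_of_free (C.US F (op C (C.UJ P.K.J)))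
    (x := k₁ * c * k₁⁻¹)
    (fun p hp => (conjL _ (mul_mem (mul_mem hk₁ hcL) (inv_mem hk₁)) p).2 hp)
    (fun p hp hc => by
      have h := free_elt P H hg hρ (p := k₁⁻¹ * p * k₁) (Or.inr (by
        have := (conjL _ (inv_mem hk₁) p).2 hp
        rwa [inv_inv] at this)) (by
        show c * (k₁⁻¹ * p * k₁) = k₁⁻¹ * p * k₁ * c
        calc c * (k₁⁻¹ * p * k₁) = k₁⁻¹ * ((k₁ * c * k₁⁻¹) * p) * k₁ := by group
          _ = _ := by rw [hc.eq]; group)
      calc p = k₁ * (k₁⁻¹ * p * k₁) * k₁⁻¹ := by group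
        _ = 1 := by rw [h]; group) hv'
  set q'' := (k₂ * c * k₂⁻¹) * q' * (k₂ * c * k₂⁻¹)⁻¹ with hq''
  obtain ⟨p₂, hp₂, a₂⟩ := Cfsg.Agent.Lib.G2Gauss.exists_conj_of_free (C.US F (C.UJ P.K.J))
    (x := k₂ * c * k₂⁻¹)
    (fun p hp => (conjL _ (mul_mem (mul_mem hk₂ hcL) (inv_mem hk₂)) p).1 hp)
    (fun p hp hc => by
      have h := free_elt P H hg hρ (p := k₂⁻¹ * p * k₂) (Or.inl (by
        have := (conjL _ (inv_mem hk₂) p).1 hp
        rwa [inv_inv] at this)) (by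
        show c * (k₂⁻¹ * p * k₂) = k₂⁻¹ * p * k₂ * c
        calc c * (k₂⁻¹ * p * k₂) = k₂⁻¹ * ((k₂ * c * k₂⁻¹) * p) * k₂ := by group
          _ = _ := by rw [hc.eq]; group)
      calc p = k₂ * (k₂⁻¹ * p * k₂) * k₂⁻¹ := by group
        _ = 1 := by rw [h]; group)
    ((conjL _ (mul_mem (mul_mem hk₂ hcL) (inv_mem hk₂)) q').1 hq')
  refine ⟨k⁻¹ * (p₁ * k₁), mul_mem (inv_mem hk) (mul_mem (C.US_le_group _ hp₁) (hle hk₁)),
    k⁻¹ * (p₂ * k₂), mul_mem (inv_mem hk) (mul_mem (C.US_le_group _ hp₂) (hle hk₂)), ?_⟩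
  calc x = k⁻¹ * (k * x * k⁻¹) * k := by group
    _ = k⁻¹ * (v' * (vK * C.HT F (cz * cz * Pi.mulSingle (P.K.f 0) t) * qK) * q') * k := by rw [e]; group
    _ = k⁻¹ * ((v' * (k₁ * c * k₁⁻¹)) * (q'' * (k₂ * c * k₂⁻¹))) * k := by
      rw [hmid, e₁, e₂, hq'']; group
    _ = _ := by rw [a₁, a₂]; group

end Cfsg.Agent.Lib.ThompsonSquare
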