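import Cfsg.Agent.Lib.ThompsonSquare.Cell
import Cfsg.Agent.Lib.ThompsonSquare.Corner
import Cfsg.Agent.Lib.CTRecog.ChevSrc

/-!
Changing the torus part of `v h q` along one fundamental coroot.
-/

set_option autoImplicit false
set_option linter.unusedSectionVars false

namespace Cfsg.Agent.Lib.ThompsonSquare

open Cfsg.Lie Cfsg.Agent.Lib.ChevStructure
open Cfsg.Agent.Lib.CTRecog (slPhi slPhi_U slPhi_H slPhi_range)
open scoped MatrixGroups Matrix

variable {D : ChevalleyDatum} {C : Core D} (H : CommOK C) {F : Type*} [Field F]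

/-- A conjugate of `g` has torus part `HT c`. -/
def Reach (C : Core D) (g : GL D.Idx F) (c : Fin D.rank → Fˣ) : Prop :=
  ∃ k ∈ D.group F, ∃ v ∈ C.US F C.Neg, ∃ q ∈ C.US F C.Pos, k * g * k⁻¹ = v * C.HT F c * q

/-- Conjugation by diag(x, 1). -/
noncomputable def tconj (x : Fˣ) : Matrix.SpecialLinearGroup (Fin 2) F →* Matrix.SpecialLinearGroup (Fin 2) F where
  toFun S := ⟨!![(x : F), 0; 0, 1] * S.1 * !![((x⁻¹ : Fˣ) : F), 0; 0, 1], by
    rw [Matrix.det_mul, Matrix.det_mul, Matrix.det_fin_two_of, Matrix.det_fin_two_of, S.2]; simp⟩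
  map_one' := by
    refine Subtype.ext ?_
    simp [Matrix.mul_fin_two, Matrix.one_fin_two]
  map_mul' S R := by
    refine Subtype.ext ?_
    show !![(x : F), 0; 0, 1] * (S.1 * R.1) * !![((x⁻¹ : Fˣ) : F), 0; 0, 1] =
      (!![(x : F), 0; 0, 1] * S.1 * !![((x⁻¹ : Fˣ) : F), 0; 0, 1]) *
        (!![(x : F), 0; 0, 1] * R.1 * !![((x⁻¹ : Fˣ) : F), 0; 0, 1])
    have e : !![((x⁻¹ : Fˣ) : F), 0; 0, 1] * !![(x : F), 0; 0, 1] = 1 := by
      simp [Matrix.mul_fin_two, Matrix.one_fin_two]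
    simp only [mul_assoc]
    rw [← mul_assoc !![((x⁻¹ : Fˣ) : F), 0; 0, 1] !![(x : F), 0; 0, 1], e, one_mul]

theorem tconj_val (x : Fˣ) (S : Matrix.SpecialLinearGroup (Fin 2) F) :
    (tconj x S).1 = !![(x : F), 0; 0, 1] * S.1 * !![((x⁻¹ : Fˣ) : F), 0; 0, 1] := rfl

theorem phi_mem_group (r : Rt D) (S : Matrix.SpecialLinearGroup (Fin 2) F) :
    slPhi C r S ∈ D.group F := by
  have h : slPhi C r S ∈ (slPhi C (K := F) r).range := ⟨S, rfl⟩
  rw [slPhi_range] at h
  exact (sup_le (C.US_le_group _) (C.US_le_group _)) h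

variable [Fintype F]

theorem HT_phi (c : Fin D.rank → Fˣ) (r : Rt D) (S : Matrix.SpecialLinearGroup (Fin 2) F) :
    C.HT F c * slPhi C r S = slPhi C r (tconj (C.chA c r) S) * C.HT F c := by
  have h : (MulAut.conj (C.HT F c)).toMonoidHom.comp (slPhi C r) = (slPhi C r).comp (tconj (C.chA c r)) := by
    refine Cfsg.Agent.Lib.CTRecog.hom_ext_two (fun t => ?_) fun t => ?_
    · show C.HT F c * slPhi C r (slU t) * (C.HT F c)⁻¹ = slPhi C r (tconj _ (slU t))
      have e : tconj (C.chA c r) (slU t) = slU ((C.chA c r : F) * t) := by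
        refine Subtype.ext ?_
        simp [tconj_val, Matrix.mul_fin_two]
      rw [e, (slPhi_U C r _).1, (slPhi_U C r _).1, C.HT_X_conj]
    · show C.HT F c * slPhi C r (slL t) * (C.HT F c)⁻¹ = slPhi C r (tconj _ (slL t))
      have e : tconj (C.chA c r) (slL t) = slL (((C.chA c r)⁻¹ : Fˣ) * t : F) := by
        refine Subtype.ext ?_
        simp [tconj_val, Matrix.mul_fin_two, mul_comm]
      rw [e, (slPhi_U C r _).2, (slPhi_U C r _).2, C.HT_X_conj]
      congr 2
      simp only [Core.chA, C.A_rev, zpow_neg, Finset.prod_inv_distrib]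
  have h' := DFunLike.congr_fun h S
  simp only [MonoidHom.comp_apply, MulEquiv.coe_toMonoidHom, MulAut.conj_apply] at h'
  rw [← h', inv_mul_cancel_right]

include H in
/-- The move: a middle which is no scalar reaches every torus part on the coroot. -/
theorem move {g : GL D.Idx F} {k : GL D.Idx F} (hk : k ∈ D.group F) {i : Fin D.rank}
    {v : GL D.Idx F} (hv : v ∈ C.US F (op C (C.posBut i))) {q : GL D.Idx F} (hq : q ∈ C.US F C.Pos) {a : F}
    {c : Fin D.rank → Fˣ} (e : k * g * k⁻¹ = v * C.X F (C.p i).rev a * C.HT F c * q)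
    (hn : a ≠ 0 ∨ C.chA c (C.p i) ≠ 1) (s : Fˣ) : Reach C g (c * Pi.mulSingle i s) := by
  obtain ⟨b, q', hq', rfl⟩ := split_p H i hq
  set χ := C.chA c (C.p i) with hχ
  set N : Matrix (Fin 2) (Fin 2) F := !![(χ : F), (χ : F) * b; a * χ, a * ((χ : F) * b) + 1] with hN
  obtain ⟨S, hS⟩ := exists_corner (N := N) (by
    rcases hn with hn | hn
    · exact Or.inr (Or.inl (by simpa [hN] using hn))
    · by_cases hb : b = 0
      · refine Or.inr (Or.inr ?_)
        simpa [hN, hb] using fun h => hn (Units.ext h)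
      · exact Or.inl (by simpa [hN] using hb)) ((s : F) * χ)
  set R := S * slL a * slU ((χ : F) * b) * tconj χ S⁻¹ with hR
  have hR0 : R.1 0 0 = (s : F) := by
    have e1 : (S * slL a * slU ((χ : F) * b)).1 * !![(χ : F), 0; 0, 1] = S.1 * N := by
      simp only [Matrix.SpecialLinearGroup.coe_mul, mul_assoc, slL_val, slU_val, hN]
      congr 1
      simp [Matrix.mul_fin_two, mul_comm, mul_left_comm]
    have e2 : R.1 = S.1 * N * (S⁻¹ : Matrix.SpecialLinearGroup (Fin 2) F).1 * !![((χ⁻¹ : Fˣ) : F), 0; 0, 1] := by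
      rw [hR, Matrix.SpecialLinearGroup.coe_mul, tconj_val, ← e1]
      simp only [mul_assoc]
    rw [e2, Matrix.mul_apply, Fin.sum_univ_two, hS]
    simp
  -- the triangular form of the new middle
  have hRd : R = slL (R.1 1 0 / s) * slH s * slU (R.1 0 1 / s) := by
    have hd := R.2
    rw [Matrix.det_fin_two, hR0] at hd
    refine Subtype.ext ?_
    simp only [Matrix.SpecialLinearGroup.coe_mul, slL_val, slH_val, slU_val, Matrix.mul_fin_two]
    have hs : (s : F) ≠ 0 := s.ne_zero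
    ext x y
    fin_cases x <;> fin_cases y <;> simp [hR0]
    all_goals first
      | (field_simp; done)
      | (field_simp; linear_combination hd)
  have hX : v * C.X F (C.p i).rev a * C.HT F c * (C.X F (C.p i) b * q') =
      v * (slPhi C (C.p i) (slL a * slU ((χ : F) * b)) * C.HT F c) * q' := by
    rw [map_mul, (slPhi_U C _ _).1, (slPhi_U C _ _).2, hχ, ← C.HT_X_conj]
    group
  have hφ : slPhi C (C.p i) S * (slPhi C (C.p i) (slL a * slU ((χ : F) * b)) * C.HT F c) *
      (slPhi C (C.p i) S)⁻¹ = slPhi C (C.p i) R * C.HT F c := by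
    rw [← map_inv, mul_assoc, mul_assoc, HT_phi, ← hχ, ← mul_assoc, ← mul_assoc, ← map_mul, ← map_mul, hR]
    simp only [mul_assoc]
  have hnS : slPhi C (C.p i) S ∈ Subgroup.normalizer (C.US F (C.posBut i) : Set (GL D.Idx F)) ⊓
      Subgroup.normalizer (C.US F (op C (C.posBut i)) : Set (GL D.Idx F)) := by
    refine posBut_normalizer H i ?_
    rw [← slPhi_range]
    exact ⟨S, rfl⟩
  refine ⟨slPhi C (C.p i) S * k, mul_mem (phi_mem_group _ _) hk,
    slPhi C (C.p i) S * v * (slPhi C (C.p i) S)⁻¹ * C.X F (C.p i).rev (R.1 1 0 / s), ?_,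
    C.X F (C.p i) (((χ⁻¹ : Fˣ) : F) * (R.1 0 1 / s)) * (slPhi C (C.p i) S * q' * (slPhi C (C.p i) S)⁻¹), ?_, ?_⟩
  · refine mul_mem (C.US_mono F (fun r hr => ?_) ((Subgroup.mem_normalizer_iff.1 hnS.2 v).1 hv))
      (C.X_mem_US F (C.rev_neg (C.p_pos i)) _)
    have := C.rev_neg hr.1
    rwa [C.rev_rev] at this
  · exact mul_mem (C.X_mem_US F (C.p_pos i) _)
      (C.US_mono F Set.sdiff_subset ((Subgroup.mem_normalizer_iff.1 hnS.1 q').1 hq'))
  · have hHT : C.HT F (c * Pi.mulSingle i s) = slPhi C (C.p i) (slH s) * C.HT F c := by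
      rw [slPhi_H, ← C.HT_single, C.HT_mul, mul_comm]
    have hb : slPhi C (C.p i) (slU (R.1 0 1 / s)) * C.HT F c =
        C.HT F c * C.X F (C.p i) (((χ⁻¹ : Fˣ) : F) * (R.1 0 1 / s)) := by
      rw [(slPhi_U C _ _).1, eq_comm, ← mul_inv_eq_iff_eq_mul, C.HT_X_conj, ← hχ, ← mul_assoc, Units.mul_inv, one_mul]
    have hc : C.HT F c * slPhi C (C.p i) (slH s) = slPhi C (C.p i) (slH s) * C.HT F c := by
      rw [slPhi_H, ← C.HT_single, C.HT_mul, C.HT_mul, mul_comm]
    calc slPhi C (C.p i) S * k * g * (slPhi C (C.p i) S * k)⁻¹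
        = slPhi C (C.p i) S * (k * g * k⁻¹) * (slPhi C (C.p i) S)⁻¹ := by group
      _ = (slPhi C (C.p i) S * v * (slPhi C (C.p i) S)⁻¹) * (slPhi C (C.p i) R * C.HT F c) *
          (slPhi C (C.p i) S * q' * (slPhi C (C.p i) S)⁻¹) := by rw [e, hX, ← hφ]; group
      _ = _ := by
        rw [congrArg (slPhi C (C.p i)) hRd, map_mul, map_mul, (slPhi_U C _ _).2, mul_assoc (C.X F (C.p i).rev _ * _), hb, hHT]
        simp only [mul_assoc]

end Cfsg.Agent.Lib.ThompsonSquare
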