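import Cfsg.Agent.Lib.ThompsonSquare.Move

/-!
Every nontrivial element of a split exceptional group is conjugate to `v h q` for every element `h` of the torus.
-/

set_option autoImplicit false
set_option linter.unusedSectionVars false

namespace Cfsg.Agent.Lib.ThompsonSquare

open Cfsg.Lie Cfsg.Agent.Lib.ChevStructure
open scoped MatrixGroups Matrix

variable {D : ChevalleyDatum} {C : Core D} (H : CommOK C) {F : Type*} [Field F] [Fintype F]

/-- The diagram is a tree with bonds of multiplicity at most three. -/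
structure Tree (C : Core D) where
  /-- the root -/
  root : Fin D.rank
  /-- the parent -/
  par : Fin D.rank → Fin D.rank
  /-- the depth -/
  dep : Fin D.rank → ℕ
  up : ∀ j, j ≠ root → dep (par j) < dep j ∧ A D j (C.p (par j)) ≠ 0 ∧ A D (par j) (C.p j) ≠ 0
  bound : ∀ i j, (A D i (C.p j)).natAbs ≤ 3

theorem chA_mul (c d : Fin D.rank → Fˣ) (r : Rt D) : C.chA (c * d) r = C.chA c r * C.chA d r := by
  simp [Core.chA, mul_zpow, Finset.prod_mul_distrib]

theorem chA_single (i : Fin D.rank) (t : Fˣ) (r : Rt D) :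
    C.chA (Pi.mulSingle i t) r = t ^ A D i r := by
  rw [Core.chA, Finset.prod_eq_single i (fun j _ hj => by simp [hj]) (by simp), Pi.mulSingle_eq_same]

theorem exists_unit_avoid (h9 : 9 ≤ Fintype.card F) {n : ℤ} (hn0 : n ≠ 0) (hn : n.natAbs ≤ 3) (a b : Fˣ) :
    ∃ t : Fˣ, t ^ n ≠ a ∧ t ^ (2 : ℤ) ≠ b := by
  classical
  obtain ⟨a', ha'⟩ : ∃ a' : Fˣ, ∀ t : Fˣ, t ^ n = a → t ^ n.natAbs = a' := by
    rcases Int.natAbs_eq n with e | e
    · exact ⟨a, fun t ht => by rw [← ht, ← zpow_natCast, ← e]⟩
    · exact ⟨a⁻¹, fun t ht => by rw [← ht, ← zpow_neg, ← zpow_natCast, show ((n.natAbs : ℤ)) = -n by omega]⟩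
  set f : Polynomial F := (Polynomial.X ^ n.natAbs - Polynomial.C (a' : F)) *
    (Polynomial.X ^ 2 - Polynomial.C (b : F)) * Polynomial.X with hf
  have hne : f ≠ 0 := mul_ne_zero (mul_ne_zero (Polynomial.X_pow_sub_C_ne_zero (by omega) _)
    (Polynomial.X_pow_sub_C_ne_zero (by omega) _)) Polynomial.X_ne_zero
  have hdeg : f.natDegree ≤ 6 := by
    rw [hf]
    refine Polynomial.natDegree_mul_le.trans ?_
    refine (Nat.add_le_add Polynomial.natDegree_mul_le le_rfl).trans ?_
    rw [Polynomial.natDegree_X_pow_sub_C, Polynomial.natDegree_X_pow_sub_C, Polynomial.natDegree_X]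
    omega
  obtain ⟨x, hx⟩ : ((Finset.univ : Finset F) \ f.roots.toFinset).Nonempty := by
    rw [← Finset.card_pos]
    have h1 := f.roots.toFinset_card_le.trans (f.card_roots'.trans hdeg)
    have h2 := Finset.le_card_sdiff f.roots.toFinset Finset.univ
    rw [Finset.card_univ] at h2
    omega
  simp only [Finset.mem_sdiff, Finset.mem_univ, Multiset.mem_toFinset, Polynomial.mem_roots hne, true_and] at hx
  simp only [hf, Polynomial.IsRoot, Polynomial.eval_mul, Polynomial.eval_sub, Polynomial.eval_pow,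
    Polynomial.eval_X, Polynomial.eval_C, mul_eq_zero, sub_eq_zero, not_or] at hx
  refine ⟨Units.mk0 x hx.2, fun h => hx.1.1 ?_, fun h => hx.1.2 ?_⟩
  · simpa using congrArg Units.val (ha' _ h)
  · rw [zpow_ofNat] at h
    simpa using congrArg Units.val h

include H in
theorem reach_move {g : GL D.Idx F} {c : Fin D.rank → Fˣ} (h : Reach C g c) {i : Fin D.rank}
    (hc : C.chA c (C.p i) ≠ 1) (s : Fˣ) : Reach C g (c * Pi.mulSingle i s) := by
  obtain ⟨k, hk, v, hv, q, hq, e⟩ := h
  obtain ⟨a, ha, t, rfl⟩ := split_n H i hv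
  exact move H hk ha hq e (Or.inr hc) s

/-- All changes along one coroot stay reachable. -/
def Line (C : Core D) (g : GL D.Idx F) (c : Fin D.rank → Fˣ) (i : Fin D.rank) : Prop :=
  ∀ s : Fˣ, Reach C g (c * Pi.mulSingle i s)

include H in
theorem line_spread (T : Tree C) (h9 : 9 ≤ Fintype.card F) {g : GL D.Idx F} {c : Fin D.rank → Fˣ}
    {k j : Fin D.rank} (hkj : A D k (C.p j) ≠ 0) (h : Line C g c k) : Line C g c j := by
  intro s
  obtain ⟨t, ht1, ht2⟩ := exists_unit_avoid h9 hkj (T.bound k j) (C.chA c (C.p j))⁻¹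
    (C.chA c (C.p k) * C.chA (Pi.mulSingle j s) (C.p k))⁻¹
  have h1 := h t
  have hj : C.chA (c * Pi.mulSingle k t) (C.p j) ≠ 1 := by
    rw [chA_mul, chA_single]
    exact fun e => ht1 (eq_inv_of_mul_eq_one_right e)
  have h2 := reach_move H h1 hj s
  have hk : C.chA (c * Pi.mulSingle k t * Pi.mulSingle j s) (C.p k) ≠ 1 := by
    rw [chA_mul, chA_mul, chA_single k, C.A_p]
    intro e
    refine ht2 (eq_inv_of_mul_eq_one_right ?_)
    rw [← e]; ac_rfl
  have h3 := reach_move H h2 hk t⁻¹
  rwa [show c * Pi.mulSingle k t * Pi.mulSingle j s * Pi.mulSingle k t⁻¹ =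
      c * Pi.mulSingle j s * (Pi.mulSingle k t * Pi.mulSingle k t⁻¹) by ac_rfl,
    ← Pi.mulSingle_mul, mul_inv_cancel, Pi.mulSingle_one, mul_one] at h3

include H in
theorem line_all (T : Tree C) (h9 : 9 ≤ Fintype.card F) {g : GL D.Idx F} {c : Fin D.rank → Fˣ}
    {i : Fin D.rank} (h : Line C g c i) (j : Fin D.rank) : Line C g c j := by
  have down : ∀ d, ∀ m, T.dep m = d → Line C g c m → Line C g c T.root := by
    intro d
    induction d using Nat.strong_induction_on with
    | _ d ih =>
      intro m hm hl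
      by_cases hr : m = T.root
      · exact hr ▸ hl
      · obtain ⟨h1, h2, -⟩ := T.up m hr
        exact ih _ (by omega) (T.par m) rfl (line_spread H T h9 h2 hl)
  have up : ∀ d, ∀ m, T.dep m = d → Line C g c T.root → Line C g c m := by
    intro d
    induction d using Nat.strong_induction_on with
    | _ d ih =>
      intro m hm hl
      by_cases hr : m = T.root
      · exact hr ▸ hl
      · obtain ⟨h1, -, h3⟩ := T.up m hr
        exact line_spread H T h9 h3 (ih _ (by omega) (T.par m) rfl hl)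
  exact up _ j rfl (down _ i rfl h)

include H in
/-- Every nontrivial element reaches every torus part. -/
theorem reach_all (T : Tree C) (h9 : 9 ≤ Fintype.card F) {g : GL D.Idx F} (hg : g ∈ D.group F) (hg1 : g ≠ 1)
    (c : Fin D.rank → Fˣ) : Reach C g c := by
  classical
  obtain ⟨k, hk, v, hv, c₀, q, hq, e, i, a, ha, t, ht, rfl⟩ := exists_low H (by omega) hg hg1
  have h0 : Line C g c₀ i := fun s => move H hk ha hq e (Or.inl ht) s
  have step : ∀ d, (∀ m, Line C g d m) → ∀ j s m, Line C g (d * Pi.mulSingle j s) m := by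
    intro d hd j s m
    refine line_all H T h9 (i := j) (fun u => ?_) m
    rw [mul_assoc, ← Pi.mulSingle_mul]
    exact hd j _
  have key : ∀ S : Finset (Fin D.rank), ∀ m, Line C g (c₀ * ∏ j ∈ S, Pi.mulSingle j (c₀⁻¹ j * c j)) m := by
    intro S
    induction S using Finset.induction_on with
    | empty => simpa using line_all H T h9 h0
    | insert j S hj ih =>
      intro m
      rw [Finset.prod_insert hj, mul_comm (Pi.mulSingle j _), ← mul_assoc]
      exact step _ ih j _ m
  have := key Finset.univ i 1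
  rwa [Pi.mulSingle_one, mul_one, show (∏ j, Pi.mulSingle j (c₀⁻¹ j * c j)) = fun j => c₀⁻¹ j * c j from
    Finset.univ_prod_mulSingle _, show c₀ * (fun j => c₀⁻¹ j * c j) = c from funext fun j => by simp] at this

end Cfsg.Agent.Lib.ThompsonSquare
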