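import Cfsg.Agent.Lib.ThompsonSquare.ChainHom
import Cfsg.Agent.Lib.ThompsonSquare.Reach

/-!
The plan of the class: a chain of fundamental roots, a torus element regular outside it and an opposition.
-/

set_option autoImplicit false
set_option linter.unusedSectionVars false

namespace Cfsg.Agent.Lib.ThompsonSquare

open Cfsg.Lie Cfsg.Agent.Lib.ChevStructure
open scoped MatrixGroups Matrix

variable {D : ChevalleyDatum}

/-- The exponent of a torus element at a root. -/
def ev (_C : Core D) (x : Fin D.rank → ℤ) (r : Rt D) : ℤ := ∑ j, x j * A D j r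

/-- All the data that is checked by computation. -/
structure Plan (C : Core D) where
  /-- the diagram -/
  T : Tree C
  /-- the chain -/
  K : Chain' C
  /-- exponents of the central element -/
  x : Fin D.rank → ℤ
  /-- exponents of a torus element with prescribed values on the chain -/
  y : Fin D.rank → ℤ
  /-- a word of the opposition -/
  L : List (Fin D.rank)
  /-- the opposition on the nodes -/
  σ : Fin D.rank → Fin D.rank
  /-- the opposition on the chain -/
  π : Fin (K.n + 1) → Fin (K.n + 1)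
  x_in : ∀ i, ev C x (C.p (K.f i)) = 0
  x_out : ∀ r : Rt D, D.nroots ≤ 2 * r.val →
    (∀ i, (∀ k, K.f k ≠ i) → co D r i = 0) ∨ (1 ≤ ev C x r ∧ ev C x r ≤ 7)
  y_eq : ∀ i, ev C y (C.p (K.f i)) = if i = 0 then 1 else 0
  L_eq : ∀ i, C.pprod L (C.p i) = (C.p (σ i)).rev
  σ_σ : ∀ i, σ (σ i) = i
  x_sym : ∀ i, ev C x (C.p (σ i)) = ev C x (C.p i)
  π_eq : ∀ i, σ (K.f i) = K.f (π i)
  π_inj : Function.Injective π

variable {C : Core D} (P : Plan C) (H : CommOK C) {F : Type*} [Field F]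

/-- The torus element with exponents `x`. -/
def tor (C : Core D) (g : Fˣ) (x : Fin D.rank → ℤ) : GL D.Idx F := C.HT F fun j => g ^ x j

theorem chA_pow (g : Fˣ) (x : Fin D.rank → ℤ) (r : Rt D) :
    C.chA (fun j => g ^ x j) r = g ^ ev C x r := by
  simp only [Core.chA, ← zpow_mul]
  exact (C.zpow_fsum g (fun j => x j * A D j r) Finset.univ).symm

theorem ev_rev (x : Fin D.rank → ℤ) (r : Rt D) : ev C x r.rev = - ev C x r := by
  simp [ev, C.A_rev, Finset.sum_neg_distrib]

theorem notMem_PJ_out {r : Rt D} (hr : r ∈ C.Pos) (h : r ∉ C.PJ P.K.J) : 1 ≤ ev C P.x r ∧ ev C P.x r ≤ 7 :=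
  (P.x_out r hr).resolve_left fun h' => h (C.mem_PJ.2 fun i hi => h' i fun k hk => hi ⟨k, by rw [← hk]⟩)

variable {g : Fˣ} (hg : ∀ k : ℤ, 1 ≤ k → k ≤ 7 → g ^ k ≠ 1)
include hg

theorem chA_out {r : Rt D} (h : r ∉ C.PJ P.K.J) : C.chA (fun j => g ^ P.x j) r ≠ 1 := by
  rw [chA_pow]
  by_cases hp : r ∈ C.Pos
  · obtain ⟨h1, h2⟩ := notMem_PJ_out P hp h
    exact hg _ h1 h2
  · obtain ⟨h1, h2⟩ := notMem_PJ_out P (C.rev_pos ((C.neg_iff_not_pos r).2 hp))
      (fun h' => h (by simpa [C.rev_rev] using C.PJ_rev h'))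
    intro e
    refine hg _ h1 h2 ?_
    rw [ev_rev, zpow_neg, e, inv_one]

omit hg in
/-- The opposition inverts the central element. -/
theorem opp_tor (g : Fˣ) :
    C.wprod F P.L * tor C g P.x * (C.wprod F P.L)⁻¹ = (tor C g P.x)⁻¹ := by
  obtain ⟨c', hc'⟩ := C.wprod_HT F P.L fun j => g ^ P.x j
  have e : C.wprod F P.L * tor C g P.x * (C.wprod F P.L)⁻¹ = C.HT F c' := by
    rw [tor, hc', mul_inv_cancel_right]
  rw [e, tor, C.HT_inv, C.HT_eq_T, C.HT_eq_T]
  congr 1
  funext m
  obtain ⟨i, rfl⟩ : ∃ i, P.σ i = m := ⟨P.σ m, P.σ_σ m⟩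
  obtain ⟨e', he'⟩ := C.acts_wprod F P.L (C.p i)
  -- both sides conjugate the same root element
  have k1 : C.chA c' (C.pprod P.L (C.p i)) = g ^ ev C P.x (C.p i) := by
    refine Units.ext ?_
    have h1 : C.HT F c' * C.X F (C.pprod P.L (C.p i)) ((e' : F) * 1) * (C.HT F c')⁻¹ =
        C.X F (C.pprod P.L (C.p i)) ((e' : F) * ((g ^ ev C P.x (C.p i) : Fˣ) : F)) := by
      rw [← e, ← he', ← he', ← chA_pow]
      have := C.HT_X_conj F (fun j => g ^ P.x j) (C.p i) 1
      rw [mul_one] at this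
      rw [← this, tor]
      group
    rw [C.HT_X_conj] at h1
    have h2 := Cfsg.Agent.Lib.CTRecog.X_inj C h1
    rw [mul_one, mul_comm] at h2
    exact mul_left_cancel₀ e'.ne_zero h2
  have k2 : C.chA c' (C.pprod P.L (C.p i)) = (C.chA c' (C.p (P.σ i)))⁻¹ := by
    rw [P.L_eq]; simp only [Core.chA, C.A_rev, zpow_neg, Finset.prod_inv_distrib]
  have k3 : C.chA (fun j => g ^ P.x j)⁻¹ (C.p (P.σ i)) = (g ^ ev C P.x (C.p (P.σ i)))⁻¹ := by
    rw [← chA_pow]; simp [Core.chA]
  rw [k3, P.x_sym, ← k1, k2, inv_inv]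

omit hg in
/-- The opposition maps every positive root to a negative one. -/
theorem opp_neg {r : Rt D} (hr : r ∈ C.Pos) : C.pprod P.L r ∈ C.Neg := by
  rw [C.neg_iff_ht]
  have hv : ∀ m, C.v (C.pprod P.L r) m = - ∑ k, C.v r k * C.v (C.p (P.σ k)) m := by
    intro m
    rw [C.pprod_v, ← Finset.sum_neg_distrib]
    refine Finset.sum_congr rfl fun k _ => ?_
    rw [P.L_eq, C.v_rev, Pi.neg_apply, mul_neg]
  have h1 : C.ht (C.pprod P.L r) = - ∑ k, C.v r k * C.ht (C.p (P.σ k)) := by
    simp only [Core.ht, phi, hv, neg_mul, Finset.sum_neg_distrib, Finset.sum_mul, Finset.mul_sum, mul_assoc]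
    rw [Finset.sum_comm]
  rw [h1, neg_lt_zero]
  obtain ⟨k, hk⟩ : ∃ k, 0 < C.v r k := by
    by_contra h
    simp only [not_exists, not_lt] at h
    have := C.ht_pos hr
    have h0 : C.v r = 0 := funext fun k => le_antisymm (h k) (C.v_nonneg hr k)
    simp [Core.ht, phi, h0] at this
  exact Finset.sum_pos' (fun m _ => mul_nonneg (C.v_nonneg hr m) (C.ht_pos (C.p_pos _)).le)
    ⟨k, Finset.mem_univ _, mul_pos hk (C.ht_pos (C.p_pos _))⟩

include H in
/-- A positive unipotent element fixed by the central element lies in the Levi part. -/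
theorem fix_pos {p : GL D.Idx F} (hp : p ∈ C.US F C.Pos) (hc : Commute (tor C g P.x) p) :
    p ∈ C.US F (C.PJ P.K.J) := by
  obtain ⟨a, rfl⟩ := H.exists_posWord (R := F) hp
  set c : Fin D.rank → Fˣ := fun j => g ^ P.x j with hcdef
  have hconj : ∀ L : List (Rt D), C.HT F c * C.wordX F L a * (C.HT F c)⁻¹ =
      C.wordX F L fun r => (C.chA c r : F) * a r := by
    intro L
    induction L with
    | nil => simp [Core.wordX]
    | cons r L ih =>
      simp only [Core.wordX, List.map_cons, List.prod_cons] at ih ⊢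
      rw [← C.HT_X_conj, ← ih]
      group
  have hfix : C.wordX F C.posL (fun r => (C.chA c r : F) * a r) = C.wordX F C.posL a := by
    rw [← hconj]
    exact mul_inv_eq_of_eq_mul hc.eq
  refine list_prod_mem fun x hx => ?_
  obtain ⟨r, hr, rfl⟩ := List.mem_map.1 hx
  by_cases hJ : r ∈ C.PJ P.K.J
  · exact C.X_mem_US F hJ _
  · have h := C.wordX_unique F C.posL_sorted (fun q hq => C.mem_posL.1 hq) hfix r hr
    have hne : ((C.chA c r : F) - 1) ≠ 0 := sub_ne_zero.2 fun e => chA_out P hg hJ (Units.ext e)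
    have : a r = 0 := by
      refine (mul_eq_zero.1 (?_ : ((C.chA c r : F) - 1) * a r = 0)).resolve_left hne
      linear_combination h
    rw [this, C.X_zero]
    exact one_mem _

include H in
theorem free_pos {p : GL D.Idx F} (hp : p ∈ C.US F (C.UJ P.K.J)) (hc : Commute (tor C g P.x) p) : p = 1 := by
  have hl : p ∈ D.leviSubgroup F P.K.J := by
    rw [C.levi_eq]
    exact Subgroup.mem_sup_right (fix_pos P H hg (C.US_mono F (fun r hr => hr.1) hp) hc)
  have h : p ∈ C.US F (C.UJ P.K.J) ⊓ D.leviSubgroup F P.K.J := ⟨hp, hl⟩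
  rwa [H.radical_inf_levi, Subgroup.mem_bot] at h

omit hg in
theorem tor_commute_X (g : Fˣ) {r : Rt D} (t : F) (h : C.chA (fun j => g ^ P.x j) r = 1) :
    Commute (tor C g P.x) (C.X F r t) := by
  have := C.HT_X_conj F (fun j => g ^ P.x j) r t
  rw [h, Units.val_one, one_mul] at this
  exact mul_inv_eq_iff_eq_mul.1 this

include H in
theorem free_neg [Fintype F] {p : GL D.Idx F} (hp : p ∈ C.US F (op C (C.UJ P.K.J)))
    (hc : Commute (tor C g P.x) p) : p = 1 := by
  classical
  set n := C.wprod F P.L with hn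
  have hinv : n⁻¹ * tor C g P.x * n = (tor C g P.x)⁻¹ := by
    have := opp_tor P (F := F) g
    calc n⁻¹ * tor C g P.x * n = n⁻¹ * (n * tor C g P.x * n⁻¹)⁻¹ * n := by rw [this, inv_inv]
      _ = _ := by group
  have hset : ∀ r ∈ op C (C.UJ P.K.J), (C.pprod P.L)⁻¹ r ∈ C.UJ P.K.J := by
    intro r hr
    have hr' : r ∉ C.PJ P.K.J := fun h => hr.2 (C.PJ_rev h)
    set s := (C.pprod P.L)⁻¹ r with hs
    have hrs : C.pprod P.L s = r := Equiv.apply_symm_apply _ _
    refine ⟨?_, fun hsJ => ?_⟩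
    · by_contra h
      have h1 := opp_neg P (C.rev_pos ((C.neg_iff_not_pos s).2 h))
      rw [C.pprod_rev, hrs] at h1
      exact (C.neg_iff_not_pos _).1 h1 hr.1
    · -- `s` would commute with the central element, so would `r`
      obtain ⟨e', he'⟩ := C.acts_wprod F P.L s
      have hs1 : C.chA (fun j => g ^ P.x j) s = 1 := by
        have key : C.US F (C.PJ P.K.J) ≤ Subgroup.centralizer {tor C g P.x} := by
          obtain ⟨ρ, hρ⟩ := exists_chainHom (F := F) H P.K
          refine (US_le_range hρ).trans (range_le_of_roots hρ fun i t => ⟨?_, ?_⟩) <;>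
            refine Subgroup.mem_centralizer_singleton_iff.2 (tor_commute_X P g t ?_).eq.symm
          · rw [chA_pow, P.x_in, zpow_zero]
          · rw [chA_pow, ev_rev, P.x_in, neg_zero, zpow_zero]
        have h1 := Subgroup.mem_centralizer_singleton_iff.1 (key (C.X_mem_US F hsJ (1 : F)))
        have h2 := C.HT_X_conj F (fun j => g ^ P.x j) s 1
        rw [← tor, ← h1, mul_inv_cancel_right, mul_one] at h2
        exact Units.ext (Cfsg.Agent.Lib.CTRecog.X_inj C h2).symm
      refine chA_out P hg hr' (Units.ext (Cfsg.Agent.Lib.CTRecog.X_inj C (r := r) ?_))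
      have h3 : Commute (n⁻¹ * tor C g P.x * n) (C.X F s ((↑e'⁻¹ : F))) := by
        rw [hinv]; exact (tor_commute_X P g _ hs1).inv_left
      have h4 := C.HT_X_conj F (fun j => g ^ P.x j) r 1
      rw [mul_one] at h4
      rw [← h4, Units.val_one, ← hrs]
      have h5 := he' (↑e'⁻¹ : F)
      rw [Units.mul_inv] at h5
      rw [← h5, ← hn]
      show tor C g P.x * (n * C.X F s _ * n⁻¹) * (tor C g P.x)⁻¹ = _
      calc tor C g P.x * (n * C.X F s (↑e'⁻¹ : F) * n⁻¹) * (tor C g P.x)⁻¹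
          = n * ((n⁻¹ * tor C g P.x * n) * C.X F s (↑e'⁻¹ : F) * (n⁻¹ * tor C g P.x * n)⁻¹) * n⁻¹ := by group
        _ = _ := by rw [h3.eq, mul_inv_cancel_right]
  have hp' : n⁻¹ * p * n ∈ C.US F (C.UJ P.K.J) := by
    have := C.conj_mem_US F (C.acts_inv F (C.acts_wprod F P.L)) hset hp
    rwa [inv_inv, ← hn] at this
  have h1 := free_pos P H hg hp' (by
    have h2 : Commute (n⁻¹ * tor C g P.x * n) (n⁻¹ * p * n) := by
      show n⁻¹ * tor C g P.x * n * (n⁻¹ * p * n) = n⁻¹ * p * n * (n⁻¹ * tor C g P.x * n)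
      calc n⁻¹ * tor C g P.x * n * (n⁻¹ * p * n) = n⁻¹ * (tor C g P.x * p) * n := by group
        _ = _ := by rw [hc.eq]; group
    rw [hinv] at h2
    simpa using h2.inv_left)
  calc p = n * (n⁻¹ * p * n) * n⁻¹ := by group
    _ = 1 := by rw [h1]; group

end Cfsg.Agent.Lib.ThompsonSquare
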