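import Cfsg.Agent.Lib.ChevStructure.Parabolic

/-!
Splittings of the unipotent groups, on both sides of the diagonal.
-/

set_option autoImplicit false
set_option linter.unusedSectionVars false

namespace Cfsg.Agent.Lib.ThompsonSquare

open Cfsg.Lie Cfsg.Agent.Lib.ChevStructure
open scoped MatrixGroups Matrix

variable {D : ChevalleyDatum} (C : Core D)

/-- The opposite set of roots. -/
def op (_C : Core D) (S : Set (Rt D)) : Set (Rt D) := {r | r.rev ∈ S}

theorem mem_op {S : Set (Rt D)} {r : Rt D} : r ∈ op C S ↔ r.rev ∈ S := Iff.rfl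

theorem op_pos : op C C.Pos = C.Neg := Set.ext fun r =>
  ⟨fun h => by simpa [C.rev_rev] using C.rev_neg (r := r.rev) h, fun h => C.rev_pos h⟩

theorem absorb_op {r : Rt D} {I : Set (Rt D)} (h : C.Absorb r I) : C.Absorb r.rev (op C I) := by
  refine ⟨fun e => h.1 (by simpa [mem_op, C.rev_rev] using e), fun s hs hne q i j hi hj hv => ?_⟩
  refine h.2 s.rev hs (fun e => hne (by rw [← e, C.rev_rev])) q.rev i j hi hj ?_
  simp only [C.v_rev, hv, smul_neg, neg_add, neg_neg]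

theorem absorb_op' {r : Rt D} {I : Set (Rt D)} (h : C.Absorb r.rev I) : C.Absorb r (op C I) := by
  simpa [C.rev_rev] using absorb_op C h

variable {C} (H : CommOK C) {F : Type*} [Field F]
include H

theorem US_le_normalizer {S A : Set (Rt D)} (hB : ∀ r ∈ S, C.Absorb r A) :
    C.US F S ≤ Subgroup.normalizer (C.US F A : Set (GL D.Idx F)) := by
  refine (Subgroup.closure_le _).2 ?_
  rintro g ⟨r, hr, t, rfl⟩
  exact H.mem_normalizer (hB r hr) t

/-- Splitting along a normalised part. -/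
theorem exists_mul {S A B : Set (Rt D)} (hS : S ⊆ A ∪ B) (hB : ∀ r ∈ B, C.Absorb r A) {g : GL D.Idx F}
    (hg : g ∈ C.US F S) : ∃ a ∈ C.US F A, ∃ b ∈ C.US F B, g = a * b := by
  have h : g ∈ C.US F A ⊔ C.US F B := by
    refine (Subgroup.closure_le _).2 ?_ hg
    rintro x ⟨r, hr, t, rfl⟩
    rcases hS hr with h | h
    · exact Subgroup.mem_sup_left (C.X_mem_US F h t)
    · exact Subgroup.mem_sup_right (C.X_mem_US F h t)
  rw [← SetLike.mem_coe, Subgroup.coe_mul_of_right_le_normalizer_left _ _ (US_le_normalizer H hB),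
    Set.mem_mul] at h
  obtain ⟨a, ha, b, hb, rfl⟩ := h
  exact ⟨a, ha, b, hb, rfl⟩

/-- The same with the normalised part on the right. -/
theorem exists_mul' {S A B : Set (Rt D)} (hS : S ⊆ A ∪ B) (hB : ∀ r ∈ B, C.Absorb r A) {g : GL D.Idx F}
    (hg : g ∈ C.US F S) : ∃ b ∈ C.US F B, ∃ a ∈ C.US F A, g = b * a := by
  obtain ⟨a, ha, b, hb, e⟩ := exists_mul H hS hB (inv_mem hg)
  exact ⟨b⁻¹, inv_mem hb, a⁻¹, inv_mem ha, by rw [← mul_inv_rev, ← e, inv_inv]⟩

/-- `u = X_i(t) a`. -/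
theorem split_p (i : Fin D.rank) {u : GL D.Idx F} (hu : u ∈ C.US F C.Pos) :
    ∃ t, ∃ a ∈ C.US F (C.posBut i), u = C.X F (C.p i) t * a := by
  obtain ⟨b, hb, a, ha, rfl⟩ := exists_mul' H (A := C.posBut i) (B := {C.p i})
    (fun r hr => (em (r = C.p i)).symm.imp (fun h => ⟨hr, h⟩) id)
    (by rintro r rfl; exact C.absorb_p i) hu
  obtain ⟨t, rfl⟩ := C.mem_US_singleton hb
  exact ⟨t, a, ha, rfl⟩

/-- `v = a X_{-i}(t)`. -/
theorem split_n (i : Fin D.rank) {v : GL D.Idx F} (hv : v ∈ C.US F C.Neg) :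
    ∃ a ∈ C.US F (op C (C.posBut i)), ∃ t, v = a * C.X F (C.p i).rev t := by
  obtain ⟨a, ha, b, hb, rfl⟩ := exists_mul H (A := op C (C.posBut i)) (B := {(C.p i).rev})
    (fun r hr => (em (r = (C.p i).rev)).symm.imp
      (fun h => (⟨C.rev_pos hr, fun e => h (by rw [← Set.mem_singleton_iff.1 e, C.rev_rev])⟩ : r.rev ∈ C.posBut i)) id)
    (by rintro r rfl; exact absorb_op C (C.absorb_p i)) hv
  obtain ⟨t, rfl⟩ := C.mem_US_singleton hb
  exact ⟨a, ha, t, rfl⟩

theorem posBut_normalizer (i : Fin D.rank) :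
    C.US F {C.p i} ⊔ C.US F {(C.p i).rev} ≤
      Subgroup.normalizer (C.US F (C.posBut i) : Set (GL D.Idx F)) ⊓
        Subgroup.normalizer (C.US F (op C (C.posBut i)) : Set (GL D.Idx F)) := by
  refine le_inf (H.root_le_normalizer i) (sup_le ?_ ?_) <;> refine US_le_normalizer H ?_ <;> rintro r rfl
  · exact absorb_op' C (C.absorb_p_rev i)
  · exact absorb_op C (C.absorb_p i)

theorem radical_normalizer (J : Set ℕ) :
    C.US F (C.PJ J) ≤
      Subgroup.normalizer (C.US F (C.UJ J) : Set (GL D.Idx F)) ⊓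
        Subgroup.normalizer (C.US F (op C (C.UJ J)) : Set (GL D.Idx F)) :=
  le_inf (US_le_normalizer H fun _ hr => C.absorb_UJ (Or.inr hr))
    (US_le_normalizer H fun _ hr => absorb_op' C (C.absorb_UJ (Or.inr (C.PJ_rev hr))))

/-- The Levi splitting on the positive side. -/
theorem split_J (J : Set ℕ) {u : GL D.Idx F} (hu : u ∈ C.US F C.Pos) :
    ∃ b ∈ C.US F (C.Pos ∩ C.PJ J), ∃ a ∈ C.US F (C.UJ J), u = b * a :=
  exists_mul' H (A := C.UJ J) (B := C.Pos ∩ C.PJ J)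
    (fun r hr => (em (r ∈ C.PJ J)).symm.imp (fun h => ⟨hr, h⟩) fun h => ⟨hr, h⟩)
    (fun _ hr => C.absorb_UJ (Or.inl hr.1)) hu

/-- The Levi splitting on the negative side. -/
theorem split_J_neg (J : Set ℕ) {v : GL D.Idx F} (hv : v ∈ C.US F C.Neg) :
    ∃ a ∈ C.US F (op C (C.UJ J)), ∃ b ∈ C.US F (C.Neg ∩ C.PJ J), v = a * b :=
  exists_mul H (A := op C (C.UJ J)) (B := C.Neg ∩ C.PJ J) (fun r hr => (em (r ∈ C.PJ J)).symm.imp
      (fun h => (⟨C.rev_pos hr, fun h' => h (by simpa [C.rev_rev] using C.PJ_rev h')⟩ : r.rev ∈ C.UJ J))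
      fun h => ⟨hr, h⟩)
    (fun _ hr => absorb_op' C (C.absorb_UJ (Or.inl (C.rev_pos hr.1)))) hv

end Cfsg.Agent.Lib.ThompsonSquare
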